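import Cfsg.Agent.Overgroup.Twisted.Parabolic

/-!
The rational points of a twisted group form a maximal subgroup: the general argument.
-/

set_option autoImplicit false
set_option linter.unusedSectionVars false

namespace Cfsg.Agent.Overgroup.Twisted

open Cfsg.Lie Cfsg.Agent.Chev
open scoped MatrixGroups

universe u

variable {D : ChevalleyDatum}

/-- The image of a root under a word in the orbits of nodes. -/
def foldW (D : ChevalleyDatum) {m : ℕ} (π : Equiv.Perm (Fin D.rank)) (base : Fin m → Fin D.rank)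
    (len : Fin m → ℕ) (ws : List (Fin m)) (r : ℕ) : ℕ :=
  ((ws.flatMap fun a => (List.range (len a)).map (orbNode π base a)).map Fin.val).foldr
    (fun i s => D.reflectRoot i s) r

/-- The facts about pairs of fixed long root elements. -/
structure PairFacts (D : ChevalleyDatum) (C : Cert) (π : Equiv.Perm (Fin D.rank))
    (ρ : Equiv.Perm (Fin D.nroots)) {m : ℕ} (base : Fin m → Fin D.rank) (len : Fin m → ℕ)
    (reach : Fin D.nroots → List (Fin m)) (b : Fin D.rank) (r1 : Fin D.nroots) : Prop where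
  reach_eq : ∀ u : Fin D.nroots, ρ u = u → (half D ≤ (u : ℕ) ∨ (u : ℕ) = D.neg (D.simple b)) →
    foldW D π base len (reach u) (D.nroots - 1) = u
  low : ∀ r : Fin D.nroots, (r : ℕ) < half D → (r : ℕ) ≠ D.neg (D.nroots - 1) → ρ r = r →
    (C.cTerms D (D.nroots - 1) r).length ≤ 1 ∧ ∀ a ∈ C.cTerms D (D.nroots - 1) r,
      half D ≤ a.1 ∧ a.2.1 ∈ ([1, -1] : List ℤ) ∧ a.2.2.1 = 1 ∧ a.2.2.2 = 1 ∧
      commutesChk D (D.nroots - 1) a.1 = true ∧ commutesChk D r a.1 = true ∧
      ∀ u : Fin D.nroots, (u : ℕ) = a.1 → ρ u = u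
  r1_pos : half D ≤ (r1 : ℕ)
  r1_fixed : ρ r1 = r1
  r1_ne : (r1 : ℕ) ≠ D.nroots - 1
  r1_upper : ∀ r : Fin D.nroots, half D ≤ (r : ℕ) → ∀ a ∈ C.cTerms D r r1, a.1 = D.nroots - 1
  bottom : (C.cTerms D r1 (D.neg (D.nroots - 1))).length = 1 ∧
    ∀ a ∈ C.cTerms D r1 (D.neg (D.nroots - 1)), a.1 = D.neg (D.simple b) ∧
      a.2.1 ∈ ([1, -1] : List ℤ) ∧ a.2.2.1 = 1 ∧ a.2.2.2 = 1 ∧
      commutesChk D r1 a.1 = true ∧ commutesChk D (D.neg (D.nroots - 1)) a.1 = true

/-- The facts carrying the last short root to the fundamental roots. -/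
structure EscapeFacts (D : ChevalleyDatum) (π : Equiv.Perm (Fin D.rank))
    (ρ : Equiv.Perm (Fin D.nroots)) (k : ℕ) {m : ℕ} (base : Fin m → Fin D.rank) (len : Fin m → ℕ)
    (S : Fin D.nroots) (wS : Fin m → List (Fin m)) (a0 : Fin m) (nb : Fin D.rank) : Prop where
  cases : ∀ a : Fin m, len a = 1 ∨ foldW D π base len (wS a) S = D.simple (base a)
  olen_base : ∀ (a : Fin m) (r : Fin D.nroots), (r : ℕ) = D.simple (base a) → olen ρ k r = len a
  olen_S : ∀ a : Fin m, len a = 1 ∨ len a = olen ρ k S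
  a0_long : len a0 ≠ 1
  nb_fixed : π nb = nb
  nb_cartan : D.cartan nb (D.simple (base a0)) = -1

variable {F : Type u} [Field F] (T : Twist D F)

theorem pW_val : ∀ (w : List (Fin D.rank)) (r : Fin D.nroots),
    (pWord T.hF w r : ℕ) = (w.map Fin.val).foldr (fun i s => D.reflectRoot i s) r
  | [], _ => rfl
  | i :: w, r => by
    rw [pWord_cons, Equiv.Perm.mul_apply, wPerm_val, pW_val w r]
    rfl

theorem pW_foldW (ws : List (Fin T.m)) (r : Fin D.nroots) :
    (T.pW ws r : ℕ) = foldW D T.π T.base T.len ws r := pW_val T (T.flat ws) r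

/-- The monomial representative of a word in orbits moves root elements by rational scalars. -/
theorem nW_conj (ws : List (Fin T.m)) (r : Fin D.nroots) :
    ∃ d : F, d ≠ 0 ∧ T.φ d = d ∧
      ∀ t, T.nW ws * xG T.hF r t * (T.nW ws)⁻¹ = xG T.hF (T.pW ws r : ℕ) (d * t) := by
  obtain ⟨d, hd0, hd⟩ := T.isMon_nW ws r
  have e : ∀ t, T.nW ws * xG T.hF r t * (T.nW ws)⁻¹ = xG T.hF (T.pW ws r : ℕ) (d * t) :=
    fun t => by rw [hd, mul_inv_cancel_right]
  refine ⟨d, hd0, ?_, e⟩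
  have e1 := congrArg (gmap D T.φ) (e 1)
  rw [map_mul, map_mul, map_inv, gmap_xG T.hF T.hF, gmap_xG T.hF T.hF, map_one,
    show gmap D T.φ (T.nW ws) = T.nW ws from gmap_nWord T.hF T.hF T.φ _, e, mul_one] at e1
  refine (sub_eq_zero.1 ((xG_eq_one_iff T.hF (T.pW ws r).2).1 ?_)).symm
  rw [sub_eq_add_neg, ← xG_mul, ← xG_inv, e1, mul_inv_cancel]

theorem nW_fx (ws : List (Fin T.m)) : T.nW ws ∈ T.fx :=
  T.G1_le_fx (T.N1_le_G1 (T.nW_mem_N1 ws))

variable {C : Cert} {mu : List (List ℤ)} {B : ℕ} (hg : GradeFacts D mu B) (hC : Checks D C)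
  (R : RootFacts D mu T.ρ T.ε T.k)
include hg hC R

theorem fixed_eps {r : Fin D.nroots} (hr : T.ρ r = r) : T.ε r = 1 := by
  have := R.eps_period r
  rw [olen, if_pos hr] at this
  simpa [eps] using this

theorem rat_of_fixed_root {r : Fin D.nroots} (hr : T.ρ r = r) {t : F}
    (h : xG T.hF r t ∈ T.fx) : T.φ t = t := by
  rw [T.mem_fx, σ_xG, hr, fixed_eps T hg hC R hr, Int.cast_one, one_mul] at h
  refine sub_eq_zero.1 ((xG_eq_one_iff T.hF r.2).1 ?_)
  rw [sub_eq_add_neg, ← xG_mul, ← xG_inv, h, mul_inv_cancel]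

variable {sp : Fin T.m → List (ℤ × Fin D.nroots)} {b : Fin D.rank}
  (Q : TopFacts D C mu T.π T.ρ T.base T.len sp b)

section rational

variable {H : Subgroup (GL D.Idx F)} (hH : Hyp T H)
  (hU : ∀ g ∈ H, g ∈ T.U1 → gmap D T.φ g = g)
  {S : Fin D.nroots} {mv : Fin D.nroots → Fin D.nroots × Fin D.nroots}
  (P : StepFacts D C mu T.ρ T.ε T.k S mv)
include Q hH hU P

/-- The part of an overgroup in the parabolic subgroup of the last root is rational. -/
theorem parabolic_fixed {h : GL D.Idx F} (hP : h ∈ D.parabolicSubgroup F (topJ D)) (hh : h ∈ H) :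
    gmap D T.φ h = h := by
  have hG := hH.le hh
  have hcen : ∀ r : Fin D.nroots, 0 < pairing D r (D.nroots - 1) →
      h⁻¹ * gmap D T.φ h * Y T r 1 * (h⁻¹ * gmap D T.φ h)⁻¹ = Y T r 1 := by
    intro r hr
    have hrp := topRoot_lt_pairing_pos T Q hr
    have hY : Y T r (1 : F) ∈ D.unipotentRadical F (topJ D) := by
      refine Subgroup.list_prod_mem _ fun y hy => ?_
      obtain ⟨i, -, rfl⟩ := List.mem_map.1 hy
      refine Subgroup.subset_closure ⟨_, _,
        (T.hF.posRoot_iff _ (Fin.is_lt _)).2 ((pos_iterate T r i).2 hrp), ?_, rfl⟩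
      intro hin
      have hz : pairing D (T.ρ^[i] r : Fin D.nroots) (D.nroots - 1) = 0 := by
        refine Finset.sum_eq_zero fun j _ => ?_
        by_cases hj : (j : ℕ) ∈ topJ D
        · rw [hj.2, mul_zero]
        · rw [(inRootSub_iff (T.ρ^[i] r)).1 hin j (fun h' => hj (mem_idxSet.1 h')), zero_mul]
      have hρp : ∀ s : Fin D.nroots, pairing D (T.ρ s : ℕ) (D.nroots - 1) =
          pairing D s (D.nroots - 1) := fun s => by
        refine (Fintype.sum_equiv T.π _ _ fun j => ?_).symm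
        rw [show coef D (T.ρ s : ℕ) (T.π j) = coef D (s : ℕ) j from T.hG.coef j s]
        have h2 := T.hG.cartan j (topRoot T.hF)
        rw [Q.ρ_top _ rfl] at h2
        rw [show D.cartan (T.π j) (D.nroots - 1) = D.cartan j (D.nroots - 1) from h2]
      have : pairing D (T.ρ^[i] r : Fin D.nroots) (D.nroots - 1) = pairing D r (D.nroots - 1) := by
        clear hz hin hy
        induction i with
        | zero => rfl
        | succ i ihi => rw [Function.iterate_succ_apply', hρp, ihi]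
      omega
    have hU' : D.unipotentRadical F (topJ D) ≤ D.posUnipotent F := by
      refine (Subgroup.closure_le _).2 ?_
      rintro g ⟨k, t, hk, -, e⟩
      exact Subgroup.subset_closure ⟨k, t, hk, e⟩
    have hYH := Y_mem_rat T hg hC R hH hrp (map_one T.φ)
    have hmem : h * Y T r 1 * h⁻¹ ∈ T.U1 :=
      ⟨hU' ((Subgroup.mem_normalizer_iff.1 (parabolic_le_normalizer T.hF _ hP) _).1 hY),
        T.G1_le_fx (mul_mem (mul_mem hG (hH.le hYH)) (inv_mem hG))⟩
    have hfix := hU _ (H.mul_mem (H.mul_mem hh hYH) (H.inv_mem hh)) hmem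
    rw [map_mul, map_mul, map_inv, gmap_Y, map_one] at hfix
    calc h⁻¹ * gmap D T.φ h * Y T r 1 * (h⁻¹ * gmap D T.φ h)⁻¹
        = h⁻¹ * (gmap D T.φ h * Y T r 1 * (gmap D T.φ h)⁻¹) * h := by group
      _ = _ := by rw [hfix]; group
  have hB := centralizes_radical T Q hg hC R (mul_mem (inv_mem hG) (gmap_G1 T hG)) hcen
  obtain ⟨f, hf, hff, hfh⟩ := descent T (J := ∅) (fun a j => Iff.rfl) hG
    (borel_le_parabolic ∅ (T.B1_le_borel hB))
  have hb : f⁻¹ * h ∈ T.B1 := by
    rw [← T.G1_inf_borel]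
    refine ⟨(sup_le le_rfl ((Subgroup.closure_le _).2 ?_) :
      D.parabolicSubgroup F ∅ ≤ D.borelSubgroup F) hfh, Subgroup.mul_mem _ (Subgroup.inv_mem _ hf) hG⟩
    rintro y ⟨j, hj, -⟩
    exact absurd hj (Set.notMem_empty j)
  have := borel_fixed T hg hC R P hH hU hb (H.mul_mem (H.inv_mem (hH.rat f hf hff)) hh)
  rw [map_mul, map_inv, hff] at this
  exact mul_left_cancel this

/-- The centraliser of a rational top root element is rational. -/
theorem centralizer_fixed {z : GL D.Idx F} (hz : TopConj T z) (hzf : gmap D T.φ z = z)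
    {h : GL D.Idx F} (hh : h ∈ H) (hc : Commute h z) : gmap D T.φ h = h := by
  obtain ⟨g, hgG, rfl⟩ := hz
  set x := xG T.hF (D.nroots - 1) (1 : F) with hx
  rw [map_mul, map_mul, map_inv, hx, gmap_xG T.hF T.hF, map_one, ← hx] at hzf
  have hgc : g⁻¹ * gmap D T.φ g ∈ D.parabolicSubgroup F (topJ D) := by
    refine centralizer_top_le T Q (mul_mem (inv_mem hgG) (gmap_G1 T hgG)) one_ne_zero ?_
    rw [← hx]
    calc g⁻¹ * gmap D T.φ g * x * (g⁻¹ * gmap D T.φ g)⁻¹
        = g⁻¹ * (gmap D T.φ g * x * (gmap D T.φ g)⁻¹) * g := by group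
      _ = _ := by rw [hzf]; group
  obtain ⟨f, hf, hff, hfg⟩ := descent T (mem_topJ_node T Q) hgG hgc
  obtain ⟨l, hl⟩ := PJ_top T Q hfg (1 : F)
  rw [← hx] at hl
  have hl0 : l ≠ 0 := fun e => by
    rw [e, xG_zero, conj_eq_one_iff, hx, xG_eq_one_iff T.hF (top_lt T.hF)] at hl
    exact one_ne_zero hl
  have hc' : f⁻¹ * h * f * xG T.hF (D.nroots - 1) l * (f⁻¹ * h * f)⁻¹ =
      xG T.hF (D.nroots - 1) l := by
    rw [← hl]
    calc f⁻¹ * h * f * (f⁻¹ * g * x * (f⁻¹ * g)⁻¹) * (f⁻¹ * h * f)⁻¹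
        = f⁻¹ * (h * (g * x * g⁻¹) * h⁻¹) * f := by group
      _ = _ := by rw [hc.eq]; group
  have hfH := hH.rat f hf hff
  have := parabolic_fixed T hg hC R Q hH hU P
    (centralizer_top_le T Q (mul_mem (mul_mem (inv_mem hf) (hH.le hh)) hf) hl0 hc')
    (H.mul_mem (H.mul_mem (H.inv_mem hfH) hh) hfH)
  rw [map_mul, map_mul, map_inv, hff] at this
  exact mul_left_cancel (mul_right_cancel this)

variable {reach : Fin D.nroots → List (Fin T.m)} {r1 : Fin D.nroots}
  (W : PairFacts D C T.π T.ρ T.base T.len reach b r1)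
include W

/-- The rational fixed long root elements are conjugates of the top one. -/
theorem topConj_root {u : Fin D.nroots} (hu : T.ρ u = u)
    (hu' : half D ≤ (u : ℕ) ∨ (u : ℕ) = D.neg (D.simple b)) {e : F} (he : e ≠ 0) (her : T.φ e = e)
    {v : GL D.Idx F} (hv : v ∈ T.G1) : TopConj T (v * xG T.hF u e * v⁻¹) := by
  obtain ⟨d, hd0, hdr, hd⟩ := nW_conj T (reach u) (topRoot T.hF)
  have hval : (T.pW (reach u) (topRoot T.hF) : ℕ) = u :=
    (pW_foldW T _ _).trans (W.reach_eq u hu hu')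
  rw [hval] at hd
  set lam : Fˣ := Units.mk0 (d⁻¹ * e) (mul_ne_zero (inv_ne_zero hd0) he) with hlam
  set c : Fin D.rank → Fˣ := Pi.mulSingle b lam with hc
  have hcfix : c ∈ T.cfix := by
    rw [T.mem_cfix]
    funext i
    show Units.map T.φ.toMonoidHom (c (T.π.symm i)) = c i
    by_cases hi : i = b
    · subst hi
      rw [show T.π.symm i = i from T.π.symm_apply_eq.2 Q.b_fixed.symm, hc, Pi.mulSingle_eq_same]
      exact Units.ext (show T.φ (d⁻¹ * e) = d⁻¹ * e by rw [map_mul, map_inv₀, hdr, her])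
    · rw [hc, Pi.mulSingle_eq_of_ne (fun h => hi (by rw [← T.π.apply_symm_apply i, h, Q.b_fixed])),
        Pi.mulSingle_eq_of_ne hi, map_one]
  refine ⟨v * T.nW (reach u) * torusHom c, mul_mem (mul_mem hv
    (T.N1_le_G1 (T.nW_mem_N1 _))) (T.T1_le_G1 (T.mem_T1.2 ⟨c, hcfix, rfl⟩)), ?_⟩
  have hχ : (chiU c (D.nroots - 1) : F) = d⁻¹ * e := by
    rw [hc, chiU_mulSingle b.2, Q.b_one, zpow_one]; rfl
  have ht := torusHom_conj T.hF c (top_lt T.hF) (1 : F)
  rw [hχ, mul_one] at ht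
  rw [show v * T.nW (reach u) * torusHom c * xG T.hF (D.nroots - 1) 1 *
    (v * T.nW (reach u) * torusHom c)⁻¹ = v * (T.nW (reach u) * (torusHom c *
      xG T.hF (D.nroots - 1) 1 * (torusHom c)⁻¹) * (T.nW (reach u))⁻¹) * v⁻¹ by group, ht,
    mul_inv_cancel_right, show T.nW (reach u) * xG T.hF (D.nroots - 1) (d⁻¹ * e) *
      (T.nW (reach u))⁻¹ = xG T.hF u (d * (d⁻¹ * e)) from hd _, mul_inv_cancel_left₀ hd0]

/-- Every conjugate of the last root element in the overgroup is rational. -/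
theorem top_orbit_rational {h : GL D.Idx F} (hh : h ∈ H) :
    gmap D T.φ (h * xG T.hF (D.nroots - 1) 1 * h⁻¹) = h * xG T.hF (D.nroots - 1) 1 * h⁻¹ := by
  set top := D.nroots - 1 with htop
  set x := xG T.hF top (1 : F) with hx
  have hρT := Q.ρ_top (topRoot T.hF) rfl
  have hxG1 : x ∈ T.G1 := by
    have := Y_mem_G1 T hg hC R (r := topRoot T.hF) (half_le_top T.hF)
      (opar_rat T (map_one T.φ))
    rwa [Y_of_fixed T hρT] at this
  have hxr : gmap D T.φ x = x := by rw [hx, gmap_xG T.hF T.hF, map_one]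
  have hxc : TopConj T x := ⟨1, one_mem _, by rw [one_mul, inv_one, mul_one]⟩
  have hxH := hH.rat x hxG1 hxr
  set x' := h * x * h⁻¹ with hx'
  have hx'H : x' ∈ H := H.mul_mem (H.mul_mem hh hxH) (H.inv_mem hh)
  obtain ⟨bb, hb, ws, x1, hx1, he⟩ := T.exists_nf (hH.le hh)
  obtain ⟨v, hv, t, ht, hvt⟩ := T.mem_B1.1 hb
  obtain ⟨cc, -, rfl⟩ := T.mem_T1.1 ht
  obtain ⟨d, hd0, -, hd⟩ := nW_conj T ws (topRoot T.hF)
  set ρ' := T.pW ws (topRoot T.hF) with hρ'
  have hρfix : T.ρ ρ' = ρ' := by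
    rw [hρ', ← Equiv.Perm.mul_apply, (T.inW1_pW ws).2.eq, Equiv.Perm.mul_apply, hρT]
  set c : F := (chiU cc (ρ' : ℕ) : F) * (d * 1) with hc
  have hc0 : c ≠ 0 := mul_ne_zero (Units.ne_zero _) (mul_ne_zero hd0 one_ne_zero)
  have hform : x' = v * xG T.hF (ρ' : ℕ) c * v⁻¹ := by
    have hc1 := top_commute_posUnipotent T.hF (closure_uGens_le T.hF _ hx1.1) (1 : F)
    have htc := torusHom_conj T.hF cc ρ'.2 (d * 1)
    rw [hx', he, ← hvt, show v * torusHom cc * T.nW ws * x1 * x * (v * torusHom cc * T.nW ws * x1)⁻¹ =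
      v * (torusHom cc * (T.nW ws * (x1 * x * x1⁻¹) * (T.nW ws)⁻¹) * (torusHom cc)⁻¹) * v⁻¹ by group,
      show x1 * x = x * x1 from hc1.eq, mul_inv_cancel_right,
      show T.nW ws * x * (T.nW ws)⁻¹ = xG T.hF (ρ' : ℕ) (d * 1) from hd 1, htc,
      mul_inv_cancel_right, ← hc]
  have hvG := T.U1_le_G1 hv
  have hρx : xG T.hF (ρ' : ℕ) c ∈ T.fx := T.G1_le_fx (by
    rw [show xG T.hF (ρ' : ℕ) c = v⁻¹ * x' * v by rw [hform]; group]
    exact mul_mem (mul_mem (inv_mem hvG) (hH.le hx'H)) hvG)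
  have hcr := rat_of_fixed_root T hg hC R hρfix hρx
  have hvx : v * x * v⁻¹ = x := by
    rw [(top_commute_posUnipotent T.hF hv.1 (1 : F)).eq, mul_inv_cancel_right]
  by_cases hpos : half D ≤ (ρ' : ℕ)
  · refine hU x' hx'H ⟨?_, T.G1_le_fx (hH.le hx'H)⟩
    rw [hform]
    exact Subgroup.mul_mem _ (Subgroup.mul_mem _ hv.1 (mem_posUnipotent_of T.hF ρ'.2 hpos c))
      (Subgroup.inv_mem _ hv.1)
  by_cases hbot : (ρ' : ℕ) = D.neg top
  swap
  · obtain ⟨hlen, hterm⟩ := W.low ρ' (not_le.1 hpos) hbot hρfix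
    have hw := conj_word T.hF (top_lt T.hF) ρ'.2 (fun e => hpos (by rw [e]; exact half_le_top T.hF))
      hbot (1 : F) c
    rw [ChevalleyDatum.commWord, commTerms_eq hC] at hw
    rcases hl : C.cTerms D top (ρ' : ℕ) with _ | ⟨a, _ | ⟨a', rest⟩⟩
    · rw [hl, List.map_nil, show wordG T.hF ([] : List (ℕ × F)) = 1 from rfl, mul_one] at hw
      refine centralizer_fixed T hg hC R Q hH hU P hxc hxr hx'H ?_
      show x' * x = x * x'
      calc x' * x = x' * (v * x * v⁻¹) := by rw [hvx]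
        _ = v * (xG T.hF (ρ' : ℕ) c * x) * v⁻¹ := by rw [hform]; group
        _ = v * (x * xG T.hF (ρ' : ℕ) c) * v⁻¹ := by rw [← mul_inv_eq_iff_eq_mul.1 hw]
        _ = (v * x * v⁻¹) * x' := by rw [hform]; group
        _ = _ := by rw [hvx]
    · obtain ⟨hap, hN, hi, hj, hcT, hcr', hafix⟩ := hterm a (by rw [hl]; exact List.mem_cons_self)
      have halt : a.1 < D.nroots := T.hF.comm_lt top ρ' (top_lt T.hF) ρ'.2 a
        (by rw [commTerms_eq hC, hl]; exact List.mem_cons_self)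
      set e : F := (a.2.1 : F) * c with he'
      have hN0 : (a.2.1 : F) ≠ 0 := by
        simp only [List.mem_cons, List.not_mem_nil, or_false] at hN
        rcases hN with h | h <;> simp [h]
      rw [hl, List.map_cons, List.map_nil, wordG_cons,
        show wordG T.hF ([] : List (ℕ × F)) = 1 from rfl, mul_one, hi, hj, pow_one, pow_one,
        neg_neg, mul_one, ← he'] at hw
      set k' := v * xG T.hF a.1 e * v⁻¹ with hk'
      have hk'H : k' ∈ H := by
        have : k' = x'⁻¹ * (x * x' * x⁻¹) := by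
          calc k' = v * ((xG T.hF (ρ' : ℕ) c)⁻¹ * (xG T.hF (ρ' : ℕ) c * xG T.hF a.1 e)) * v⁻¹ := by
                rw [hk']; group
            _ = x'⁻¹ * ((v * x * v⁻¹) * x' * (v * x * v⁻¹)⁻¹) := by rw [← hw, hform, hx, htop]; group
            _ = _ := by rw [hvx]
        rw [this]
        exact H.mul_mem (H.inv_mem hx'H) (H.mul_mem (H.mul_mem hxH hx'H) (H.inv_mem hxH))
      have her : T.φ e = e := by rw [he', map_mul, map_intCast, hcr]
      have hkc := topConj_root T hg hC R Q hH hU P W (u := ⟨a.1, halt⟩) (hafix _ rfl)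
        (Or.inl hap) (mul_ne_zero hN0 hc0) her hvG
      have hkr : gmap D T.φ k' = k' := hU k' hk'H
        ⟨Subgroup.mul_mem _ (Subgroup.mul_mem _ hv.1 (mem_posUnipotent_of T.hF halt hap e))
          (Subgroup.inv_mem _ hv.1),
          T.G1_le_fx (hH.le hk'H)⟩
      refine centralizer_fixed T hg hC R Q hH hU P hkc hkr hx'H ?_
      rw [hform]
      exact (commute_of_chk T.hF ρ'.2 halt hcr' c e).symm.map (MulAut.conj v).toMonoidHom
    · rw [hl] at hlen; simp at hlen
  -- the opposite of the last root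
  set z1 := v * xG T.hF r1 (1 : F) * v⁻¹ with hz1
  have hz1G : xG T.hF r1 (1 : F) ∈ T.G1 := by
    have := Y_mem_G1 T hg hC R W.r1_pos (opar_rat T (map_one T.φ))
    rwa [Y_of_fixed T W.r1_fixed] at this
  have hwX : z1 * (xG T.hF r1 (1 : F))⁻¹ ∈ D.rootSubgroup F top := by
    have key : ∀ g ∈ D.posUnipotent F,
        g * xG T.hF r1 (1 : F) * g⁻¹ * (xG T.hF r1 (1 : F))⁻¹ ∈ D.rootSubgroup F top := by
      have hnorm : ∀ g ∈ D.posUnipotent F, ∀ y ∈ D.rootSubgroup F top, g * y * g⁻¹ = y := by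
        intro g hg' y hy
        obtain ⟨s, rfl⟩ := (mem_rootSubgroup T.hF).1 hy
        rw [(top_commute_posUnipotent T.hF hg' s).eq, mul_inv_cancel_right]
      intro g hg'
      rw [posUnipotent_eq T.hF] at hg'
      induction hg' using Subgroup.closure_induction with
      | mem y hy =>
        obtain ⟨r, t, h1, h2, rfl⟩ := hy
        by_cases e : (r1 : ℕ) = r
        · subst e
          rw [xG_inv, xG_inv, xG_mul, xG_mul, xG_mul, show t + 1 + -t + -1 = (0 : F) by ring,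
            xG_zero]
          exact one_mem _
        have hne : (r1 : ℕ) ≠ D.neg r := by
          have := (neg_lt_half_iff T.hF h2).2 h1; have := W.r1_pos; omega
        rw [conj_word T.hF h2 r1.2 e hne]
        have hWd : wordG T.hF (D.commWord F r r1 (-t) 1) ∈ D.rootSubgroup F top :=
          wordG_mem T.hF fun q hq => by
            obtain ⟨a, ha, rfl⟩ := List.mem_map.1 hq
            rw [commTerms_eq hC] at ha
            rw [W.r1_upper ⟨r, h2⟩ h1 a ha]
            exact (mem_rootSubgroup T.hF).2 ⟨_, rfl⟩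
        rw [hnorm _ (mem_posUnipotent_of T.hF r1.2 W.r1_pos 1) _ hWd]
        exact hWd
      | one => simp
      | mul g g' hgm _ iha iha' =>
        rw [show g * g' * xG T.hF r1 (1 : F) * (g * g')⁻¹ * (xG T.hF r1 (1 : F))⁻¹ =
          g * (g' * xG T.hF r1 (1 : F) * g'⁻¹ * (xG T.hF r1 (1 : F))⁻¹) * g⁻¹ *
            (g * xG T.hF r1 (1 : F) * g⁻¹ * (xG T.hF r1 (1 : F))⁻¹) by group,
          hnorm g (by rwa [posUnipotent_eq T.hF]) _ iha']
        exact mul_mem iha' iha
      | inv g hgm iha =>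
        rw [show g⁻¹ * xG T.hF r1 (1 : F) * g⁻¹⁻¹ * (xG T.hF r1 (1 : F))⁻¹ =
          g⁻¹ * (g * xG T.hF r1 (1 : F) * g⁻¹ * (xG T.hF r1 (1 : F))⁻¹)⁻¹ * g⁻¹⁻¹ by group,
          hnorm g⁻¹ (by rw [posUnipotent_eq T.hF]; exact inv_mem hgm) _ (inv_mem iha)]
        exact inv_mem iha
    exact key v hv.1
  obtain ⟨l, hl⟩ := (mem_rootSubgroup T.hF).1 hwX
  have hz1G' : z1 ∈ T.G1 := mul_mem (mul_mem hvG hz1G) (inv_mem hvG)
  have hlr : T.φ l = l := rat_of_fixed_root T hg hC R hρT (r := topRoot T.hF) (by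
    show xG T.hF top l ∈ T.fx
    rw [← hl]
    exact T.G1_le_fx (mul_mem hz1G' (inv_mem hz1G)))
  have hz1r : gmap D T.φ z1 = z1 := by
    rw [mul_inv_eq_iff_eq_mul.1 hl, map_mul, gmap_xG T.hF T.hF, gmap_xG T.hF T.hF, map_one, hlr]
  have hz1c := topConj_root T hg hC R Q hH hU P W W.r1_fixed (Or.inl W.r1_pos) one_ne_zero
    (map_one T.φ) hvG
  obtain ⟨hlen, hterm⟩ := W.bottom
  obtain ⟨a, hla⟩ := List.length_eq_one_iff.1 hlen
  obtain ⟨ha1, hN, hi, hj, hcr1, hc0'⟩ := hterm a (by rw [hla]; exact List.mem_cons_self)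
  have hbn : D.neg top < D.nroots := neg_lt T.hF (top_lt T.hF)
  have hw := conj_word T.hF r1.2 hbn (fun e => by
    have := (neg_lt_half_iff T.hF (top_lt T.hF)).2 (half_le_top T.hF); have := W.r1_pos; omega)
    (fun e => W.r1_ne (by
      have h1 := congrArg (negF T.hF) (show negF T.hF (topRoot T.hF) = negF T.hF r1 from Fin.ext e)
      rw [negF_negF, negF_negF] at h1
      rw [← h1]; rfl)) (1 : F) c
  set e : F := (a.2.1 : F) * c with he'
  rw [ChevalleyDatum.commWord, commTerms_eq hC, hla, List.map_cons, List.map_nil, wordG_cons,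
    show wordG T.hF ([] : List (ℕ × F)) = 1 from rfl, mul_one, hi, hj, pow_one, pow_one,
    neg_neg, mul_one, ← he'] at hw
  have halt : a.1 < D.nroots := T.hF.comm_lt r1 _ r1.2 hbn a
    (by rw [commTerms_eq hC, hla]; exact List.mem_cons_self)
  rw [hbot] at hform
  set k' := v * xG T.hF a.1 e * v⁻¹ with hk'
  have hk'H : k' ∈ H := by
    have hz1H := hH.rat z1 hz1G' hz1r
    have : k' = x'⁻¹ * (z1 * x' * z1⁻¹) := by
      calc k' = v * ((xG T.hF (D.neg top) c)⁻¹ * (xG T.hF (D.neg top) c * xG T.hF a.1 e)) * v⁻¹ := by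
            rw [hk']; group
        _ = _ := by rw [← hw, hform, hz1]; group
    rw [this]
    exact H.mul_mem (H.inv_mem hx'H) (H.mul_mem (H.mul_mem hz1H hx'H) (H.inv_mem hz1H))
  have hkr : gmap D T.φ k' = k' := by
    refine centralizer_fixed T hg hC R Q hH hU P hz1c hz1r hk'H ?_
    exact (commute_of_chk T.hF r1.2 halt hcr1 1 e).map (MulAut.conj v).toMonoidHom
  have hN0 : (a.2.1 : F) ≠ 0 := by
    simp only [List.mem_cons, List.not_mem_nil, or_false] at hN
    rcases hN with h | h <;> simp [h]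
  have hafix : T.ρ ⟨a.1, halt⟩ = ⟨a.1, halt⟩ := by
    have : (⟨a.1, halt⟩ : Fin D.nroots) = negF T.hF (sRoot T.hF b) := Fin.ext ha1
    rw [this, T.rho_negF, T.rho_sRoot, Q.b_fixed]
  have hkc := topConj_root T hg hC R Q hH hU P W (u := ⟨a.1, halt⟩) hafix (Or.inr ha1)
    (mul_ne_zero hN0 hc0) (by rw [map_mul, map_intCast, hcr]) hvG
  refine centralizer_fixed T hg hC R Q hH hU P hkc hkr hx'H ?_
  rw [hform]
  exact (commute_of_chk T.hF hbn halt hc0' c e).symm.map (MulAut.conj v).toMonoidHom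

/-- An overgroup with rational unipotent part is rational. -/
theorem all_fixed {h : GL D.Idx F} (hh : h ∈ H) : gmap D T.φ h = h := by
  have hG := hH.le hh
  set x := xG T.hF (D.nroots - 1) (1 : F) with hx
  have hesc := top_orbit_rational T hg hC R Q hH hU P W hh
  rw [← hx, map_mul, map_mul, map_inv, hx, gmap_xG T.hF T.hF, map_one, ← hx] at hesc
  have hc : h⁻¹ * gmap D T.φ h ∈ D.parabolicSubgroup F (topJ D) := by
    refine centralizer_top_le T Q (mul_mem (inv_mem hG) (gmap_G1 T hG)) one_ne_zero ?_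
    rw [← hx]
    calc h⁻¹ * gmap D T.φ h * x * (h⁻¹ * gmap D T.φ h)⁻¹
        = h⁻¹ * (gmap D T.φ h * x * (gmap D T.φ h)⁻¹) * h := by group
      _ = _ := by rw [hesc]; group
  obtain ⟨f, hf, hff, hfh⟩ := descent T (mem_topJ_node T Q) hG hc
  have := parabolic_fixed T hg hC R Q hH hU P hfh (H.mul_mem (H.inv_mem (hH.rat f hf hff)) hh)
  rw [map_mul, map_inv, hff] at this
  exact mul_left_cancel this

end rational

section escape

variable {S : Fin D.nroots} {wS : Fin T.m → List (Fin T.m)} {a0 : Fin T.m} {nb : Fin D.rank}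
  (E : EscapeFacts D T.π T.ρ T.k T.base T.len S wS a0 nb)
include E

theorem y_eq_Y (a : Fin T.m) (t : F) : T.y true a t = Y T (sRoot T.hF (T.base a)) t := by
  rw [Y, E.olen_base a _ rfl, Twist.y, Twist.yv]
  refine congrArg List.prod (List.map_congr_left fun j _ => ?_)
  have key : ∀ j, T.ρ^[j] (sRoot T.hF (T.base a)) = sRoot T.hF (T.node a j) ∧
      eps T.ρ T.ε j (sRoot T.hF (T.base a)) = 1 := by
    intro j
    induction j with
    | zero => exact ⟨rfl, rfl⟩
    | succ j ih =>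
      refine ⟨?_, ?_⟩
      · rw [Function.iterate_succ_apply', ih.1, T.rho_sRoot, T.node_succ]
      · rw [eps_succ, ih.1, ih.2, (T.hG.simple (T.node a j) (sRoot T.hF (T.node a j)) rfl).2, mul_one]
  rw [(key j).1, (key j).2, Int.cast_one, one_mul]
  rfl

theorem exists_conj_base {a : Fin T.m} (ha : T.len a ≠ 1) :
    ∃ n ∈ T.G1, gmap D T.φ n = n ∧ ∃ d : F, d ≠ 0 ∧ T.φ d = d ∧
      ∀ t, n * Y T S t * n⁻¹ = T.y true a (d * t) := by
  obtain ⟨d, hd0, hdr, hd⟩ := nW_conj T (wS a) S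
  have he : T.pW (wS a) S = sRoot T.hF (T.base a) :=
    Fin.ext ((pW_foldW T _ _).trans ((E.cases a).resolve_left ha))
  refine ⟨T.nW (wS a), T.N1_le_G1 (T.nW_mem_N1 _), gmap_nWord T.hF T.hF T.φ _, d, hd0, hdr,
    fun t => ?_⟩
  rw [he] at hd
  rw [y_eq_Y T hg hC R E, conj_Y T R (nW_fx T _) (r' := sRoot T.hF (T.base a))
    ((E.olen_base a _ rfl).trans ((E.olen_S a).resolve_left ha)) hd]

variable {H : Subgroup (GL D.Idx F)} (hH : Hyp T H)
include hH

/-- A parameter of an orbit at `S` gives one of the chosen orbit of fundamental roots. -/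
theorem y_of_S {t : F} (ht : Y T S t ∈ H) :
    ∃ d : F, d ≠ 0 ∧ T.φ d = d ∧ T.y true a0 (d * t) ∈ H := by
  obtain ⟨n, hn, hnr, d, hd0, hdr, hd⟩ := exists_conj_base T hg hC R E E.a0_long
  exact ⟨d, hd0, hdr, by
    rw [← hd]; exact H.mul_mem (H.mul_mem (hH.rat n hn hnr) ht) (H.inv_mem (hH.rat n hn hnr))⟩

/-- The parameters of the chosen orbit are closed under rational multiples. -/
theorem scale {t w : F} (ht : T.y true a0 t ∈ H) (hw : T.φ w = w) :
    T.y true a0 (w * t) ∈ H := by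
  by_cases hw0 : w = 0
  · rw [hw0, zero_mul, T.y_zero]; exact H.one_mem
  set c : Fin D.rank → Fˣ := Pi.mulSingle nb (Units.mk0 w hw0)⁻¹ with hc
  have hcfix : c ∈ T.cfix := by
    rw [T.mem_cfix]
    funext i
    show Units.map T.φ.toMonoidHom (c (T.π.symm i)) = c i
    by_cases hi : i = nb
    · subst hi
      rw [show T.π.symm i = i from T.π.symm_apply_eq.2 E.nb_fixed.symm, hc, Pi.mulSingle_eq_same]
      exact Units.ext (show T.φ w⁻¹ = w⁻¹ by rw [map_inv₀, hw])
    · rw [hc, Pi.mulSingle_eq_of_ne (fun h => hi (by rw [← T.π.apply_symm_apply i, h, E.nb_fixed])),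
        Pi.mulSingle_eq_of_ne hi, map_one]
  have hh : (torusHom c : GL D.Idx F) ∈ T.T1 := T.mem_T1.2 ⟨c, hcfix, rfl⟩
  have hr : gmap D T.φ (torusHom c : GL D.Idx F) = torusHom c := by
    rw [gmap_torusHom, show (fun i => Units.map T.φ.toMonoidHom (c i)) = c from funext fun i => ?_]
    by_cases hi : i = nb
    · subst hi
      rw [hc, Pi.mulSingle_eq_same]
      exact Units.ext (show T.φ w⁻¹ = w⁻¹ by rw [map_inv₀, hw])
    · rw [hc, Pi.mulSingle_eq_of_ne hi, map_one]
  have hcH := hH.rat _ (T.T1_le_G1 hh) hr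
  have e : (chiU c (T.rt true a0 0 : ℕ) : F) = w := by
    rw [hc, chiU_mulSingle nb.2]
    show ((((Units.mk0 w hw0)⁻¹) ^ D.cartan nb (D.simple (T.base a0)) : Fˣ) : F) = w
    rw [E.nb_cartan, zpow_neg, zpow_one, inv_inv, Units.val_mk0]
  rw [← e, ← T.torus_conj_y hcfix]
  exact H.mul_mem (H.mul_mem hcH ht) (H.inv_mem hcH)

theorem rat_param {t : F} (ht : T.φ t = t) : T.y true a0 t ∈ H :=
  hH.rat _ (T.y_mem_G1 (φ_pow_fixed T ht _) true) (by rw [gmap_y, ht])

/-- All parameters at the chosen orbit give the whole twisted group. -/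
theorem eq_top_of_full (hall : ∀ t, T.y true a0 t ∈ H) : T.G1 ≤ H := by
  have hS : ∀ t, Y T S t ∈ H := fun t => by
    obtain ⟨n, hn, hnr, d, -, -, hd⟩ := exists_conj_base T hg hC R E E.a0_long
    have hnH := hH.rat n hn hnr
    rw [show Y T S t = n⁻¹ * (n * Y T S t * n⁻¹) * n by group, hd]
    exact H.mul_mem (H.mul_mem (H.inv_mem hnH) (hall _)) hnH
  have hpos : ∀ (a : Fin T.m) (t : F), T.Par a t → T.y true a t ∈ H := by
    intro a t ht
    by_cases ha : T.len a = 1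
    · rw [Twist.Par, ha, pow_one] at ht
      exact hH.rat _ (T.y_mem_G1 (φ_pow_fixed T ht _) true) (by rw [gmap_y, ht])
    · obtain ⟨n, hn, hnr, d, hd0, -, hd⟩ := exists_conj_base T hg hC R E ha
      have hnH := hH.rat n hn hnr
      rw [show t = d * (d⁻¹ * t) by rw [mul_inv_cancel_left₀ hd0], ← hd]
      exact H.mul_mem (H.mul_mem hnH (hS _)) (H.inv_mem hnH)
  refine (Subgroup.closure_le _).2 ?_
  rintro g ⟨s, a, t, ht, rfl⟩
  cases s with
  | true => exact hpos a t ht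
  | false =>
    have hnH := hH.rat _ (T.nA_mem_G1 a)
      (show gmap D T.φ (T.nA a) = T.nA a from gmap_nWord T.hF T.hF T.φ _)
    rw [show t = -(-t) by rw [neg_neg], ← T.nA_conj_y]
    exact H.mul_mem (H.mul_mem hnH (hpos a (-t) (T.par_neg ht))) (H.inv_mem hnH)

omit hH

/-- The rational points form a proper subgroup. -/
theorem exists_irrational (hirr : ∃ t : F, T.φ t ≠ t) :
    ∃ g ∈ T.G1, gmap D T.φ g ≠ g := by
  obtain ⟨t, ht⟩ := hirr
  refine ⟨T.y true a0 t, T.y_mem_G1 ?_ true, fun e => ?_⟩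
  · show (T.φ ^ T.len a0) t = t
    have h := (E.olen_S a0).resolve_left E.a0_long
    have := olen_le R S
    rcases eq_or_ne (T.ρ S) S with h' | h'
    · rw [olen, if_pos h'] at h; exact absurd h E.a0_long
    · rw [h, olen, if_neg h']; exact T.hφ t
  · rw [gmap_y] at e
    exact ht (T.y_injective e)

variable {mv : Fin D.nroots → Fin D.nroots × Fin D.nroots}
  (P : StepFacts D C mu T.ρ T.ε T.k S mv) {reach : Fin D.nroots → List (Fin T.m)}
  {r1 : Fin D.nroots} (W : PairFacts D C T.π T.ρ T.base T.len reach b r1)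
include P W Q

/-- The rational points form a maximal subgroup, given the closure of the parameters. -/
theorem maximal (hirr : ∃ t : F, T.φ t ≠ t)
    (full : ∀ H : Subgroup (GL D.Idx F), Hyp T H → ∀ t, T.φ t ≠ t → T.y true a0 t ∈ H →
      ∀ t', T.y true a0 t' ∈ H)
    (M : Subgroup (GL D.Idx F)) (hM : ∀ g, g ∈ M ↔ g ∈ T.G1 ∧ gmap D T.φ g = g) :
    M ≠ T.G1 ∧ ∀ H : Subgroup (GL D.Idx F), M ≤ H → H ≤ T.G1 → H = M ∨ H = T.G1 := by
  refine ⟨fun e => ?_, fun H hMH hHG => ?_⟩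
  · obtain ⟨g, hg', hne⟩ := exists_irrational T hg hC R E hirr
    exact hne ((hM g).1 (e ▸ hg')).2
  have hH : Hyp T H := ⟨hHG, fun g h1 h2 => hMH ((hM g).2 ⟨h1, h2⟩)⟩
  rcases dichotomy T hg hC R P hH with hU | ⟨t, ht, htH⟩
  · exact Or.inl (le_antisymm
      (fun h hh => (hM h).2 ⟨hHG hh, all_fixed T hg hC R Q hH hU P W hh⟩) hMH)
  · obtain ⟨d, hd0, hdr, hd⟩ := y_of_S T hg hC R E hH htH
    refine Or.inr (le_antisymm hHG (eq_top_of_full T hg hC R E hH (full H hH _ ?_ hd)))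
    rw [map_mul, hdr]
    exact fun e => ht (mul_left_cancel₀ hd0 e)

end escape

end Cfsg.Agent.Overgroup.Twisted
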