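import Cfsg.Agent.Overgroup.Twisted.Main

/-!
Decidability of the facts about moves.
-/

set_option autoImplicit false

namespace Cfsg.Agent.Overgroup.Twisted

open Cfsg.Lie Cfsg.Agent.Chev

noncomputable instance (D : ChevalleyDatum) (C : Cert) (mu : List (List ℤ)) (ρ : Equiv.Perm (Fin D.nroots))
    (ε : Fin D.nroots → ℤ) (k : ℕ) (r s v : Fin D.nroots) :
    Decidable (Move D C mu ρ ε k r s v) :=
  decidable_of_iff
    (half D ≤ (s : ℕ) ∧ half D ≤ (v : ℕ) ∧ lv D mu v = lv D mu r + lv D mu s ∧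
      (∀ r' : Fin D.nroots, half D ≤ (r' : ℕ) → lv D mu r' = lv D mu r → r ≤ r' →
        (∀ i : Fin k, ρ^[(i : ℕ)] r ≠ r') → wt D C ρ ε k s v r' = 0) ∧
      ∃ e ∈ ([1, -1] : List ℤ), ∃ j : Fin k,
        (∀ i : Fin k, eps ρ ε i r * wt D C ρ ε k s v (ρ^[(i : ℕ)] r) = if i = j then e else 0) ∨
        (∀ i : Fin k, eps ρ ε i r * wt D C ρ ε k s v (ρ^[(i : ℕ)] r) = if i = j then 0 else e))
    ⟨fun ⟨a, b, c, d, e⟩ => ⟨a, b, c, d, e⟩, fun ⟨a, b, c, d, e⟩ => ⟨a, b, c, d, e⟩⟩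

noncomputable instance (D : ChevalleyDatum) (C : Cert) (mu : List (List ℤ)) : Decidable (Linear D C mu) := by
  unfold Linear; infer_instance

end Cfsg.Agent.Overgroup.Twisted
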