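import Cfsg.Agent.Chev.Twist.E6
import Cfsg.Agent.Chev.Check.E6
import Cfsg.Agent.Overgroup.Twisted.Decide

/-!
The checks for the twisted groups of type ²E₆.
-/

set_option autoImplicit false
set_option maxRecDepth 100000
set_option maxHeartbeats 4000000

namespace Cfsg.Agent.Overgroup.Twisted

open Cfsg.Lie Cfsg.Agent.Chev

/-- Coweights giving the height. -/
def e6Mu' : List (List ℤ) := [[4, 3, 5, 6, 4, 2], [3, 6, 6, 9, 6, 3], [5, 6, 10, 12, 8, 4], [6, 9, 12, 18, 12, 6],
  [4, 6, 8, 12, 10, 5], [2, 3, 4, 6, 5, 4]]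

/-- A root of type E₆ by its index. -/
def e6R (r : ℕ) : Fin chevE6.nroots :=
  ⟨r % chevE6.nroots, Nat.mod_lt _ (by decide +kernel)⟩

/-- The last short root. -/
def e6S : Fin chevE6.nroots := e6R 66

/-- The moves. -/
def e6Mv (r : Fin chevE6.nroots) : Fin chevE6.nroots × Fin chevE6.nroots :=
  if (r : ℕ) = 36 then (e6R 44, e6R 45) else
  if (r : ℕ) = 37 then (e6R 39, e6R 40) else
  if (r : ℕ) = 38 then (e6R 39, e6R 41) else
  if (r : ℕ) = 40 then (e6R 46, e6R 48) else
  if (r : ℕ) = 41 then (e6R 46, e6R 49) else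
  if (r : ℕ) = 45 then (e6R 46, e6R 52) else
  if (r : ℕ) = 48 then (e6R 60, e6R 66) else
  if (r : ℕ) = 49 then (e6R 44, e6R 55) else
  if (r : ℕ) = 52 then (e6R 39, e6R 54) else
  if (r : ℕ) = 54 then (e6R 37, e6R 55) else
  (e6R 36, e6R 66)

/-- The words reaching the fixed long roots. -/
def e6Reach (r : Fin chevE6.nroots) : List (Fin 4) :=
  if (r : ℕ) = 25 then [3, 2, 1, 2, 0, 1, 2, 3] else
  if (r : ℕ) = 39 then [3, 1, 2, 0, 1, 2, 3] else
  if (r : ℕ) = 44 then [3, 2, 0, 1, 2, 3] else
  if (r : ℕ) = 46 then [2, 1, 2, 0, 1, 2, 3] else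
  if (r : ℕ) = 47 then [1, 2, 0, 1, 2, 3] else
  if (r : ℕ) = 51 then [2, 0, 1, 2, 3] else
  if (r : ℕ) = 53 then [0, 1, 2, 3] else
  if (r : ℕ) = 60 then [3, 2, 1, 2, 3] else
  if (r : ℕ) = 63 then [2, 1, 2, 3] else
  if (r : ℕ) = 65 then [1, 2, 3] else
  if (r : ℕ) = 69 then [2, 3] else
  if (r : ℕ) = 70 then [3] else
  []

/-- The combinations of fixed roots giving the orbit sums. -/
def e6Sp (a : Fin 4) : List (ℤ × Fin chevE6.nroots) :=
  if a = 0 then [(1, e6R 63), (-1, e6R 51)] else if a = 1 then [(1, e6R 51), (-1, e6R 47)]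
  else if a = 2 then [(1, e6R 47), (-1, e6R 46)] else [(1, e6R 46)]

/-- The word carrying the last short root to the orbit of fundamental roots. -/
def e6WS (a : Fin 4) : List (Fin 4) :=
  if a = 0 then [1, 2, 3, 1, 2, 0, 1, 0] else [2, 3, 0, 1, 2, 0, 1, 0]

/-- The node moving the last root. -/
def e6B : Fin chevE6.rank := ⟨1, by decide +kernel⟩

/-- A node scaling the chosen orbit of short fundamental roots. -/
def e6Node : Fin chevE6.rank := ⟨3, by decide +kernel⟩

theorem e6_gradeFacts : GradeFacts chevE6 e6Mu' 34 where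
  pos := by decide +kernel
  bound := by decide +kernel

theorem e6_rootFacts :
    RootFacts chevE6 e6Mu' e6_flip_ρ (fun r => e6_flip_E.getD r 0) 2 where
  one_lt := by decide
  period := by decide +kernel
  distinct := by decide +kernel
  eps_period := by decide +kernel
  comm := by decide +kernel
  grade := by decide +kernel

theorem e6_stepFacts :
    StepFacts chevE6 e6Cert e6Mu' e6_flip_ρ (fun r => e6_flip_E.getD r 0) 2 e6S e6Mv where
  linear := by decide +kernel
  pos_S := by decide +kernel
  moved_S := by decide +kernel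
  min_S := by decide +kernel
  above := by decide +kernel
  move := by decide +kernel

theorem e6_topFacts :
    TopFacts chevE6 e6Cert e6Mu' e6_flip_π e6_flip_ρ e6Base e6Len e6Sp e6B where
  ρ_top := by decide +kernel
  dom := by decide +kernel
  b_fixed := by decide +kernel
  b_one := by decide +kernel
  top_pos := by decide +kernel
  radical := by decide +kernel
  span := by decide +kernel

theorem e6_pairFacts :
    PairFacts chevE6 e6Cert e6_flip_π e6_flip_ρ e6Base e6Len e6Reach e6B (e6R 70) where
  reach_eq := by decide +kernel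
  low := by decide +kernel
  r1_pos := by decide +kernel
  r1_fixed := by decide +kernel
  r1_ne := by decide +kernel
  r1_upper := by decide +kernel
  bottom := by decide +kernel

theorem e6_escapeFacts :
    EscapeFacts chevE6 e6_flip_π e6_flip_ρ 2 e6Base e6Len e6S e6WS 1 e6Node where
  cases := by decide +kernel
  olen_base := by decide +kernel
  olen_S := by decide +kernel
  a0_long := by decide +kernel
  nb_fixed := by decide +kernel
  nb_cartan := by decide +kernel

end Cfsg.Agent.Overgroup.Twisted
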