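import Cfsg.Agent.Chev.Grading
import Cfsg.Agent.Chev.Functorial
import Cfsg.Agent.Overgroup.Basic

/-!
The filtration of the unipotent group by a grading, and the coordinates of its layers.
-/

set_option autoImplicit false
set_option linter.unusedSectionVars false

namespace Cfsg.Agent.Overgroup.Twisted

open Cfsg.Lie Cfsg.Agent.Chev
open scoped MatrixGroups

universe u

variable (D : ChevalleyDatum) (mu : List (List ℤ))

/-- The grade of a root. -/
def gradeR (r : ℕ) : ℤ :=
  ∑ i : Fin D.rank, ∑ j : Fin D.rank, (mu.getD i []).getD j 0 * D.cartan j r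

/-- The grade of a root, as a natural number. -/
def lv (r : ℕ) : ℕ := (gradeR D mu r).toNat

/-- The grade of a coordinate. -/
def gradeI : D.Idx → ℤ := Sum.elim (fun _ => 0) fun s : Fin D.nroots => gradeR D mu s

/-- The positive roots have positive grades, bounded by `B`. -/
structure GradeFacts (B : ℕ) : Prop where
  pos : ∀ r : Fin D.nroots, half D ≤ (r : ℕ) → 0 < gradeR D mu r
  bound : ∀ r : Fin D.nroots, (gradeR D mu r).natAbs ≤ B

variable {D} {mu} {F : Type u} [Field F]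

/-- The elements raising the grade by at least `m`. -/
def LV (mu : List (List ℤ)) (m : ℕ) : Subgroup (GL D.Idx F) where
  carrier := {g | (∀ a b, gradeI D mu a < gradeI D mu b + m →
      ((g : Matrix D.Idx D.Idx F) - 1) a b = 0) ∧
    ∀ a b, gradeI D mu a < gradeI D mu b + m →
      (((g⁻¹ : GL D.Idx F) : Matrix D.Idx D.Idx F) - 1) a b = 0}
  one_mem' := by simp
  mul_mem' := by
    have key : ∀ A B : Matrix D.Idx D.Idx F,
        (∀ a b, gradeI D mu a < gradeI D mu b + m → (A - 1) a b = 0) →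
        (∀ a b, gradeI D mu a < gradeI D mu b + m → (B - 1) a b = 0) →
        ∀ a b, gradeI D mu a < gradeI D mu b + m → (A * B - 1) a b = 0 := by
      intro A B hA hB a b hab
      rw [show A * B - 1 = (A - 1) + (B - 1) + (A - 1) * (B - 1) by noncomm_ring, Matrix.add_apply,
        Matrix.add_apply, hA a b hab, hB a b hab, zero_add, zero_add, Matrix.mul_apply]
      refine Finset.sum_eq_zero fun c _ => ?_
      by_cases h : gradeI D mu a < gradeI D mu c + m
      · rw [hA a c h, zero_mul]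
      · rw [hB c b (by omega), mul_zero]
    rintro g g' ⟨h1, h2⟩ ⟨h3, h4⟩
    exact ⟨by rw [Units.val_mul]; exact key _ _ h1 h3,
      by rw [mul_inv_rev, Units.val_mul]; exact key _ _ h4 h2⟩
  inv_mem' := by
    rintro g ⟨h1, h2⟩
    exact ⟨h2, by rwa [inv_inv]⟩

theorem LV_anti {k l : ℕ} (h : k ≤ l) : (LV mu l : Subgroup (GL D.Idx F)) ≤ LV mu k :=
  fun _ hg => ⟨fun a b hab => hg.1 a b (by omega), fun a b hab => hg.2 a b (by omega)⟩

theorem LV_eq_one {B m : ℕ} (hg : GradeFacts D mu B) (hm : 2 * B < m) {g : GL D.Idx F}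
    (hgm : g ∈ LV mu m) : g = 1 := by
  have hb : ∀ a : D.Idx, (gradeI D mu a).natAbs ≤ B := fun a => by
    rcases a with j | s
    · simp [gradeI]
    · exact hg.bound s
  apply Units.ext
  ext a b
  have := hgm.1 a b (by have := hb a; have := hb b; omega)
  rwa [Matrix.sub_apply, sub_eq_zero] at this

theorem comm_mem_LV {m n : ℕ} {g h : GL D.Idx F} (hg : g ∈ LV mu m) (hh : h ∈ LV mu n) :
    g * h * g⁻¹ * h⁻¹ ∈ LV mu (m + n) := by
  let P : ℕ → Matrix D.Idx D.Idx F → Prop := fun k A =>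
    ∀ a b, gradeI D mu a < gradeI D mu b + k → A a b = 0
  have hmul : ∀ {k l : ℕ} {A B : Matrix D.Idx D.Idx F}, P k A → P l B → P (k + l) (A * B) := by
    intro k l A B hA hB a b hab
    rw [Matrix.mul_apply]
    refine Finset.sum_eq_zero fun c _ => ?_
    by_cases h : gradeI D mu a < gradeI D mu c + k
    · rw [hA a c h, zero_mul]
    · rw [hB c b (by push_cast at hab; omega), mul_zero]
  have key : ∀ {k l : ℕ} {g h : GL D.Idx F}, P k ((g : Matrix D.Idx D.Idx F) - 1) →
      P l ((h : Matrix D.Idx D.Idx F) - 1) → P k (((g⁻¹ : GL D.Idx F) : Matrix D.Idx D.Idx F) - 1) →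
      P l (((h⁻¹ : GL D.Idx F) : Matrix D.Idx D.Idx F) - 1) →
      P (k + l) (((g * h * g⁻¹ * h⁻¹ : GL D.Idx F) : Matrix D.Idx D.Idx F) - 1) := by
    intro k l g h hg hh hg' hh'
    have h0 : ∀ {j : ℕ} {M : Matrix D.Idx D.Idx F}, P j (M - 1) → P 0 M := fun {j M} hM a b hab => by
      have := hM a b (by push_cast at hab; omega)
      rw [Matrix.sub_apply, Matrix.one_apply_ne (fun e => by subst e; simp at hab), sub_zero] at this
      exact this
    have hAB : P (k + l) ((g : Matrix D.Idx D.Idx F) * h - h * g) := by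
      intro a b hab
      rw [show (g : Matrix D.Idx D.Idx F) * h - h * g =
        ((g : Matrix D.Idx D.Idx F) - 1) * (h - 1) - (h - 1) * (g - 1) by noncomm_ring,
        Matrix.sub_apply, hmul hg hh a b hab, hmul hh hg a b (by push_cast at hab ⊢; omega),
        sub_zero]
    have e : ((g * h * g⁻¹ * h⁻¹ : GL D.Idx F) : Matrix D.Idx D.Idx F) - 1 =
        ((g : Matrix D.Idx D.Idx F) * h - h * g) * ((g⁻¹ : GL D.Idx F) : Matrix D.Idx D.Idx F) *
          ((h⁻¹ : GL D.Idx F) : Matrix D.Idx D.Idx F) := by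
      rw [sub_mul, sub_mul]
      simp only [← Units.val_mul]
      rw [show h * g * g⁻¹ * h⁻¹ = 1 by group, Units.val_one]
    rw [e]
    intro a b hab
    exact hmul (hmul hAB (h0 hg')) (h0 hh') a b (by push_cast at hab ⊢; omega)
  refine ⟨key hg.1 hh.1 hg.2 hh.2, ?_⟩
  rw [show (g * h * g⁻¹ * h⁻¹)⁻¹ = h * g * h⁻¹ * g⁻¹ by group]
  exact fun a b hab => key hh.1 hg.1 hh.2 hg.2 a b (by push_cast at hab ⊢; omega)

/-- An entry raising the grade by exactly `m` is additive. -/
theorem entry_mul {m : ℕ} (hm : 0 < m) {a b : D.Idx}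
    (hab : gradeI D mu a = gradeI D mu b + m) {g h : GL D.Idx F} (hg : g ∈ LV mu m)
    (hh : h ∈ LV mu m) : ((g * h : GL D.Idx F) : Matrix D.Idx D.Idx F) a b =
      (g : Matrix D.Idx D.Idx F) a b + (h : Matrix D.Idx D.Idx F) a b := by
  have hne : a ≠ b := fun e => by subst e; omega
  have e : ((g * h : GL D.Idx F) : Matrix D.Idx D.Idx F) =
      1 + ((g : Matrix D.Idx D.Idx F) - 1) + ((h : Matrix D.Idx D.Idx F) - 1) +
        ((g : Matrix D.Idx D.Idx F) - 1) * ((h : Matrix D.Idx D.Idx F) - 1) := by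
    rw [Units.val_mul]; noncomm_ring
  have h0 : (((g : Matrix D.Idx D.Idx F) - 1) * ((h : Matrix D.Idx D.Idx F) - 1)) a b = 0 := by
    rw [Matrix.mul_apply]
    refine Finset.sum_eq_zero fun c _ => ?_
    by_cases h' : gradeI D mu a < gradeI D mu c + m
    · rw [hg.1 a c h', zero_mul]
    · rw [hh.1 c b (by omega), mul_zero]
  rw [e, Matrix.add_apply, Matrix.add_apply, Matrix.add_apply, h0, Matrix.one_apply_ne hne,
    Matrix.sub_apply, Matrix.sub_apply, Matrix.one_apply_ne hne]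
  ring

variable (hF : Facts.{u} D)
include hF

theorem gradeR_neg {r : ℕ} (hr : r < D.nroots) : gradeR D mu (D.neg r) = -gradeR D mu r := by
  simp only [gradeR, ← Finset.sum_neg_distrib]
  exact Finset.sum_congr rfl fun i _ => Finset.sum_congr rfl fun j _ => by
    rw [hF.cartan_neg r hr j j.2, mul_neg]

/-- A node with a coefficient of `v` not zero in `F`. -/
noncomputable def nd (v : Fin D.nroots) : Fin D.rank :=
  ⟨Classical.choose (hF.coef_unit (F := F) v.2),
    (Classical.choose_spec (hF.coef_unit (F := F) v.2)).1⟩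

theorem coef_nd (v : Fin D.nroots) : ((coef D v (nd hF v (F := F)) : ℤ) : F) ≠ 0 :=
  (Classical.choose_spec (hF.coef_unit (F := F) v.2)).2

/-- The coordinate at `v`. -/
noncomputable def co (v : Fin D.nroots) (g : GL D.Idx F) : F :=
  (g : Matrix D.Idx D.Idx F) (Sum.inl (nd hF v (F := F))) (Sum.inr (negF hF v)) /
    ((coef D v (nd hF v (F := F)) : ℤ) : F)

theorem co_xG (v s : Fin D.nroots) (t : F) :
    co hF v (xG hF s t) = if v = s then t else 0 := by
  rw [co, xG_val]
  by_cases h : v = s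
  · subst h
    rw [if_pos rfl]
    show D.x F v t (Sum.inl _) (Sum.inr ⟨D.neg v, neg_lt hF v.2⟩) / _ = t
    rw [x_neg_col hF v.2, mul_div_cancel_left₀ _ (coef_nd hF v)]
  · rw [if_neg h, x_col_inl_zero hF (negF hF v).2 t _ (fun e => h ?_), zero_div]
    have h2 : negF hF v = negF hF s := Fin.ext e.2
    rw [← negF_negF hF v, h2, negF_negF]

theorem co_gmap (f : F →+* F) (v : Fin D.nroots) (g : GL D.Idx F) :
    co hF v (gmap D f g) = f (co hF v g) := by
  rw [co, co, map_div₀, map_intCast, gmap_apply]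

theorem co_one (v : Fin D.nroots) : co hF v (1 : GL D.Idx F) = 0 := by
  rw [co, Units.val_one, Matrix.one_apply_ne (by simp), zero_div]

variable {B : ℕ} (hg : GradeFacts D mu B)
include hg

theorem lv_cast {r : Fin D.nroots} (hr : half D ≤ (r : ℕ)) :
    (lv D mu r : ℤ) = gradeR D mu r := Int.toNat_of_nonneg (hg.pos r hr).le

theorem lv_pos {r : Fin D.nroots} (hr : half D ≤ (r : ℕ)) : 0 < lv D mu r := by
  have := lv_cast hF hg hr; have := hg.pos r hr; omega

theorem co_grade {v : Fin D.nroots} (hv : half D ≤ (v : ℕ)) (j : Fin D.rank) :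
    gradeI D mu (Sum.inl j) = gradeI D mu (Sum.inr (negF hF v)) + (lv D mu v : ℕ) := by
  show (0 : ℤ) = gradeR D mu (D.neg v) + _
  rw [gradeR_neg hF v.2, lv_cast hF hg hv]
  omega

theorem co_mul {v : Fin D.nroots} (hv : half D ≤ (v : ℕ)) {g h : GL D.Idx F}
    (hgm : g ∈ LV mu (lv D mu v)) (hhm : h ∈ LV mu (lv D mu v)) :
    co hF v (g * h) = co hF v g + co hF v h := by
  rw [co, co, co, entry_mul (lv_pos hF hg hv) (co_grade hF hg hv _) hgm hhm, add_div]

theorem co_inv {v : Fin D.nroots} (hv : half D ≤ (v : ℕ)) {g : GL D.Idx F}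
    (hgm : g ∈ LV mu (lv D mu v)) : co hF v g⁻¹ = -co hF v g := by
  have := co_mul hF hg hv hgm (inv_mem hgm)
  rw [mul_inv_cancel, co_one] at this
  linear_combination -this

theorem co_of_higher {v : Fin D.nroots} (hv : half D ≤ (v : ℕ)) {g : GL D.Idx F}
    (hgm : g ∈ LV mu (lv D mu v + 1)) : co hF v g = 0 := by
  have := hgm.1 (Sum.inl (nd hF v (F := F))) (Sum.inr (negF hF v))
    (by have := co_grade hF hg hv (nd hF v (F := F)); push_cast at this ⊢; omega)
  rw [Matrix.sub_apply, Matrix.one_apply_ne (by simp), sub_zero] at this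
  rw [co, this, zero_div]

theorem co_conj {v : Fin D.nroots} (hv : half D ≤ (v : ℕ)) {a g : GL D.Idx F}
    (ha : a ∈ LV mu 1) (hgm : g ∈ LV mu (lv D mu v)) :
    a * g * a⁻¹ ∈ LV mu (lv D mu v) ∧ co hF v (a * g * a⁻¹) = co hF v g := by
  have h1 := comm_mem_LV ha hgm
  have h2 : a * g * a⁻¹ * g⁻¹ ∈ LV mu (lv D mu v) := LV_anti (Nat.le_add_left _ _) h1
  have e : a * g * a⁻¹ = a * g * a⁻¹ * g⁻¹ * g := by group
  refine ⟨by rw [e]; exact mul_mem h2 hgm, ?_⟩
  rw [e, co_mul hF hg hv h2 hgm, co_of_higher hF hg hv (LV_anti (by omega) h1), zero_add]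

variable {C : Cert} (hC : Checks D C)
include hC

theorem xG_mem_LV {r : Fin D.nroots} (hr : half D ≤ (r : ℕ)) {m : ℕ} (hm : m ≤ lv D mu r) (t : F) :
    xG hF r t ∈ LV mu m := by
  have hlv := lv_cast hF hg hr
  have key : ∀ v : F, ∀ a b, gradeI D mu a < gradeI D mu b + m →
      (D.x F r v - 1) a b = 0 := by
    intro v a b hab
    rw [Matrix.sub_apply, sub_eq_zero, Matrix.one_apply]
    by_contra hne
    obtain ⟨k, hk, e⟩ := entry_grade hC mu ∅ r.2 v hne
    have hG : ∀ c : D.Idx, gradeJ mu ∅ c = gradeI D mu c := fun c => by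
      rcases c with c | c <;> simp [gradeJ, gradeI, gradeR]
    rw [hG, hG, hG, show gradeI D mu (Sum.inr ⟨(r : ℕ), r.2⟩ : D.Idx) = gradeR D mu r from rfl] at e
    have : (k : ℤ) * gradeR D mu r ≥ gradeR D mu r := le_mul_of_one_le_left
      (by omega) (by exact_mod_cast hk)
    omega
  refine ⟨?_, ?_⟩
  · rw [xG_val]; exact key t
  · rw [xG_inv, xG_val]; exact key (-t)

theorem posUnipotent_le_LV : D.posUnipotent F ≤ LV mu 1 := by
  rw [posUnipotent_eq hF, Subgroup.closure_le]
  rintro g ⟨r, t, h1, h2, rfl⟩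
  exact xG_mem_LV hF hg hC (r := ⟨r, h2⟩) h1 (lv_pos hF hg (r := ⟨r, h2⟩) h1) t

omit hC in
theorem co_wordG {v : Fin D.nroots} (hv : half D ≤ (v : ℕ)) : ∀ L : List (ℕ × F),
    (∀ q ∈ L, xG hF q.1 q.2 ∈ LV mu (lv D mu v)) →
    wordG hF L ∈ LV mu (lv D mu v) ∧
      co hF v (wordG hF L) = (L.map fun q => co hF v (xG hF q.1 q.2)).sum
  | [], _ => ⟨one_mem _, by rw [List.map_nil, List.sum_nil]; exact co_one hF v⟩
  | q :: L, hL => by
    obtain ⟨h1, h2⟩ := co_wordG hv L fun p hp => hL p (List.mem_cons_of_mem _ hp)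
    have hq := hL q List.mem_cons_self
    rw [wordG_cons, List.map_cons, List.sum_cons]
    exact ⟨mul_mem hq h1, by rw [co_mul hF hg hv hq h1, h2]⟩

theorem co_prodFrom {v : Fin D.nroots} (hv : half D ≤ (v : ℕ)) {t : ℕ → F}
    (ht : ∀ r : Fin D.nroots, half D ≤ (r : ℕ) → lv D mu r < lv D mu v → t r = 0) :
    co hF v (prodFrom hF (half D) t) = t v := by
  rw [prodFrom, (co_wordG hF hg hv _ fun q hq => ?_).2]
  · rw [List.map_map, List.sum_map_eq_nsmul_single (v : ℕ)]
    · rw [List.count_eq_one_of_mem List.nodup_range' (List.mem_range'_1.2 ⟨hv, by have := v.2; omega⟩),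
        one_nsmul, Function.comp_apply, co_xG, if_pos rfl]
    · intro r hne hr
      rw [List.mem_range'_1] at hr
      rw [Function.comp_apply, co_xG hF v ⟨r, by omega⟩, if_neg (fun e => hne (by rw [e]))]
  · obtain ⟨r, hr, rfl⟩ := List.mem_map.1 hq
    rw [List.mem_range'_1] at hr
    by_cases h : lv D mu r < lv D mu v
    · rw [ht ⟨r, by omega⟩ hr.1 h, xG_zero]; exact one_mem _
    · exact xG_mem_LV hF hg hC (r := ⟨r, by omega⟩) hr.1 (not_lt.1 h) _

/-- An element of `U` in the layer `m` as an ordered product. -/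
theorem exists_coords {m : ℕ} {g : GL D.Idx F} (hU : g ∈ D.posUnipotent F) (hgm : g ∈ LV mu m) :
    ∃ t : ℕ → F, g = prodFrom hF (half D) t ∧
      (∀ r : Fin D.nroots, half D ≤ (r : ℕ) → lv D mu r < m → t r = 0) ∧
      ∀ r : Fin D.nroots, half D ≤ (r : ℕ) → lv D mu r = m → co hF r g = t r := by
  obtain ⟨t, rfl⟩ := (mem_posUnipotent_iff hF).1 hU
  have h0 : ∀ n, n ≤ m → ∀ r : Fin D.nroots, half D ≤ (r : ℕ) → lv D mu r < n → t r = 0 := by
    intro n
    induction n with
    | zero => intro _ r _ h; omega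
    | succ n ih =>
      intro hn r hr h
      rcases Nat.lt_succ_iff_lt_or_eq.1 h with h | h
      · exact ih (by omega) r hr h
      · rw [← co_prodFrom hF hg hC hr fun s hs hlt => ih (by omega) s hs (h ▸ hlt)]
        exact co_of_higher hF hg hr (LV_anti (by omega) hgm)
  refine ⟨t, rfl, h0 m le_rfl, fun r hr he => ?_⟩
  exact co_prodFrom hF hg hC hr fun s hs hlt => h0 m le_rfl s hs (he ▸ hlt)

theorem mem_LV_succ {m : ℕ} {g : GL D.Idx F} (hU : g ∈ D.posUnipotent F) (hgm : g ∈ LV mu m)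
    (h0 : ∀ r : Fin D.nroots, half D ≤ (r : ℕ) → lv D mu r = m → co hF r g = 0) :
    g ∈ LV mu (m + 1) := by
  obtain ⟨t, rfl, ht, ht'⟩ := exists_coords hF hg hC hU hgm
  refine wordG_mem hF fun q hq => ?_
  obtain ⟨r, hr, rfl⟩ := List.mem_map.1 hq
  rw [List.mem_range'_1] at hr
  rcases lt_trichotomy (lv D mu r) m with h | h | h
  · rw [ht ⟨r, by omega⟩ hr.1 h, xG_zero]; exact one_mem _
  · rw [← ht' ⟨r, by omega⟩ hr.1 h, h0 ⟨r, by omega⟩ hr.1 h, xG_zero]; exact one_mem _
  · exact xG_mem_LV hF hg hC (r := ⟨r, by omega⟩) hr.1 h _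

theorem entry_eq {m : ℕ} {g : GL D.Idx F} (hU : g ∈ D.posUnipotent F) (hgm : g ∈ LV mu m)
    {v : Fin D.nroots} (hv : half D ≤ (v : ℕ)) (he : lv D mu v = m) (j : Fin D.rank) :
    (g : Matrix D.Idx D.Idx F) (Sum.inl j) (Sum.inr (negF hF v)) =
      ((coef D v j : ℤ) : F) * co hF v g := by
  obtain ⟨t, rfl, ht, ht'⟩ := exists_coords hF hg hC hU hgm
  rw [ht' v hv he]
  subst he
  -- the entry is additive over the factors
  have key : ∀ L : List (ℕ × F), (∀ q ∈ L, q.1 < D.nroots ∧ xG hF q.1 q.2 ∈ LV mu (lv D mu v)) →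
      wordG hF L ∈ LV mu (lv D mu v) ∧
      (wordG hF L : GL D.Idx F).val (Sum.inl j) (Sum.inr (negF hF v)) =
        (L.map fun q => if q.1 = (v : ℕ) then ((coef D v j : ℤ) : F) * q.2 else 0).sum := by
    intro L
    induction L with
    | nil => intro _; exact ⟨one_mem _, by simp [wordG]⟩
    | cons q L ih =>
      intro hL
      obtain ⟨h1, h2⟩ := ih fun p hp => hL p (List.mem_cons_of_mem _ hp)
      obtain ⟨hq, hqm⟩ := hL q List.mem_cons_self
      rw [wordG_cons, List.map_cons, List.sum_cons]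
      refine ⟨mul_mem hqm h1, ?_⟩
      rw [entry_mul (lv_pos hF hg hv) (co_grade hF hg hv j) hqm h1, h2, xG_val]
      congr 1
      by_cases e : q.1 = (v : ℕ)
      · rw [if_pos e, e]
        exact x_neg_col hF v.2 _ _
      · rw [if_neg e, x_col_inl_zero hF (negF hF v).2 _ j fun e' => e ?_]
        have h3 : negF hF v = negF hF ⟨q.1, hq⟩ := Fin.ext e'.2
        have := congrArg (negF hF) h3
        rw [negF_negF, negF_negF] at this
        rw [this]
  rw [prodFrom, (key _ fun q hq => ?_).2]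
  · rw [List.map_map, List.sum_map_eq_nsmul_single (v : ℕ)]
    · rw [List.count_eq_one_of_mem List.nodup_range'
        (List.mem_range'_1.2 ⟨hv, by have := v.2; omega⟩), one_nsmul, Function.comp_apply, if_pos rfl]
    · intro r hne _
      rw [Function.comp_apply, if_neg hne]
  · obtain ⟨r, hr, rfl⟩ := List.mem_map.1 hq
    rw [List.mem_range'_1] at hr
    refine ⟨(show r < D.nroots by omega), ?_⟩
    by_cases h : lv D mu r < lv D mu v
    · rw [ht ⟨r, by omega⟩ hr.1 h, xG_zero]; exact one_mem _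
    · exact xG_mem_LV hF hg hC (r := ⟨r, by omega⟩) hr.1 (not_lt.1 h) _

end Cfsg.Agent.Overgroup.Twisted
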