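import Cfsg.Agent.Chev.Twist.Weyl
import Cfsg.Agent.Overgroup.Twisted.Level

/-!
Orbits of roots under the symmetry, their fixed products, and the coordinates of fixed elements.
-/

set_option autoImplicit false
set_option linter.unusedSectionVars false

namespace Cfsg.Agent.Overgroup.Twisted

open Cfsg.Lie Cfsg.Agent.Chev
open scoped MatrixGroups

universe u

variable {D : ChevalleyDatum}

/-- The length of the orbit of a root, for a symmetry of prime order `k`. -/
def olen (ρ : Equiv.Perm (Fin D.nroots)) (k : ℕ) (r : Fin D.nroots) : ℕ :=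
  if ρ r = r then 1 else k

/-- The sign of `σ ^ i` at a root. -/
def eps (ρ : Equiv.Perm (Fin D.nroots)) (ε : Fin D.nroots → ℤ) : ℕ → Fin D.nroots → ℤ
  | 0, _ => 1
  | i + 1, r => ε r * eps ρ ε i (ρ r)

theorem eps_succ (ρ : Equiv.Perm (Fin D.nroots)) (ε : Fin D.nroots → ℤ) :
    ∀ (i : ℕ) (r : Fin D.nroots), eps ρ ε (i + 1) r = ε (ρ^[i] r) * eps ρ ε i r
  | 0, r => rfl
  | i + 1, r => by
    rw [eps, eps_succ ρ ε i (ρ r), Function.iterate_succ_apply,
      show eps ρ ε (i + 1) r = ε r * eps ρ ε i (ρ r) from rfl]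
    ring

/-- The facts about the orbits of the roots. -/
structure RootFacts (D : ChevalleyDatum) (mu : List (List ℤ)) (ρ : Equiv.Perm (Fin D.nroots))
    (ε : Fin D.nroots → ℤ) (k : ℕ) : Prop where
  one_lt : 1 < k
  period : ∀ r, ρ^[olen ρ k r] r = r
  distinct : ∀ r, ∀ i : Fin k, 0 < (i : ℕ) → (i : ℕ) < olen ρ k r → ρ^[(i : ℕ)] r ≠ r
  eps_period : ∀ r, eps ρ ε (olen ρ k r) r = 1
  comm : ∀ r : Fin D.nroots, half D ≤ (r : ℕ) → ∀ i j : Fin k,
    commutesChk D (ρ^[(i : ℕ)] r : Fin D.nroots) (ρ^[(j : ℕ)] r : Fin D.nroots) = true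
  grade : ∀ r : Fin D.nroots, gradeR D mu (ρ r : Fin D.nroots) = gradeR D mu r

section

variable {mu : List (List ℤ)} {ρ : Equiv.Perm (Fin D.nroots)} {ε : Fin D.nroots → ℤ} {k : ℕ}
  (R : RootFacts D mu ρ ε k)
include R

theorem olen_pos (r : Fin D.nroots) : 0 < olen ρ k r := by
  have := R.one_lt; rw [olen]; split <;> omega

theorem olen_le (r : Fin D.nroots) : olen ρ k r ≤ k := by
  have := R.one_lt; rw [olen]; split <;> omega

omit R in
theorem olen_iterate (i : ℕ) (r : Fin D.nroots) : olen ρ k (ρ^[i] r) = olen ρ k r := by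
  induction i with
  | zero => rfl
  | succ i ih =>
    rw [Function.iterate_succ_apply', ← ih, olen, olen]
    simp only [EmbeddingLike.apply_eq_iff_eq]

theorem iterate_mod (i : ℕ) (r : Fin D.nroots) : ρ^[i] r = ρ^[i % olen ρ k r] r :=
  (Function.IsPeriodicPt.iterate_mod_apply (R.period r) i).symm

theorem iterate_ne {r : Fin D.nroots} {i j : ℕ} (hi : i < olen ρ k r) (hj : j < olen ρ k r)
    (h : i ≠ j) : ρ^[i] r ≠ ρ^[j] r := by
  have key : ∀ {i j : ℕ}, i < j → j < olen ρ k r → ρ^[i] r ≠ ρ^[j] r := by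
    intro i j hij hj e
    have hL := olen_le R r
    refine R.distinct r ⟨j - i, by omega⟩ (by show 0 < j - i; omega)
      (by show j - i < olen ρ k r; omega) ?_
    have h2 : ρ^[i] (ρ^[j - i] r) = ρ^[i] r := by
      rw [← Function.iterate_add_apply, show i + (j - i) = j by omega, e]
    exact (ρ.injective.iterate i) h2
  rcases Nat.lt_or_gt_of_ne h with h | h
  · exact key h hj
  · exact (key h hi).symm

theorem lv_iterate (i : ℕ) (r : Fin D.nroots) :
    lv D mu (ρ^[i] r : Fin D.nroots) = lv D mu r := by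
  induction i with
  | zero => rfl
  | succ i ih =>
    rw [Function.iterate_succ_apply', lv, R.grade, ← lv, ih]

end

variable {F : Type u} [Field F] (T : Twist D F)

theorem pos_iterate (r : Fin D.nroots) :
    ∀ i : ℕ, half D ≤ (T.ρ^[i] r : ℕ) ↔ half D ≤ (r : ℕ)
  | 0 => Iff.rfl
  | i + 1 => by rw [Function.iterate_succ_apply', T.rho_pos, pos_iterate r i]

theorem aut_entry (g : GL D.Idx F) (j : Fin D.rank) (r : Fin D.nroots) :
    ((T.hG.aut g : GL D.Idx F) : Matrix D.Idx D.Idx F) (Sum.inl (T.π j))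
        (Sum.inr (negF T.hF (T.ρ r))) * (T.ε r : F) =
      (g : Matrix D.Idx D.Idx F) (Sum.inl j) (Sum.inr (negF T.hF r)) := by
  have h : (T.hG.mat : GL D.Idx F) * g = T.hG.aut g * T.hG.mat := by
    rw [T.hG.aut_eq, inv_mul_cancel_right]
  have e := congrArg (fun x : GL D.Idx F => (x : Matrix D.Idx D.Idx F)
    (Equiv.sumCongr T.π T.ρ (Sum.inl j)) (Sum.inr (negF T.hF r))) h
  simp only [Units.val_mul, T.hG.mat_mul_apply, T.hG.mul_mat_apply] at e
  have hn : T.ε (negF T.hF r) = T.ε r := (T.hG.neg r (negF T.hF r) rfl).2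
  simp only [graphWeight, Equiv.sumCongr_apply, Sum.map_inl, Sum.map_inr, Sum.elim_inl,
    Sum.elim_inr, one_mul, hn, T.rho_negF] at e
  exact e.symm

theorem aut_x_eps (r : Fin D.nroots) (t : F) :
    T.hG.aut (xG T.hF r t) = xG T.hF (T.ρ r) ((T.ε r : F) * t) := by
  obtain ⟨e, -, he⟩ := T.hG.aut_x T.hF r (F := F)
  obtain ⟨j, hj, hne⟩ := T.hF.coef_unit (F := F) r.2
  have h := aut_entry T (xG T.hF r 1) ⟨j, hj⟩ r
  rw [he, xG_val, xG_val] at h
  rw [show D.x F (T.ρ r : ℕ) (e * 1) (Sum.inl (T.π ⟨j, hj⟩)) (Sum.inr (negF T.hF (T.ρ r))) =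
      ((coef D (T.ρ r : ℕ) (T.π ⟨j, hj⟩) : ℤ) : F) * (e * 1) from x_neg_col T.hF (T.ρ r).2 _ _,
    show D.x F (r : ℕ) 1 (Sum.inl ⟨j, hj⟩) (Sum.inr (negF T.hF r)) =
      ((coef D (r : ℕ) j : ℤ) : F) * 1 from x_neg_col T.hF r.2 _ _,
    show coef D (T.ρ r : ℕ) (T.π ⟨j, hj⟩) = coef D (r : ℕ) j from T.hG.coef _ r] at h
  have hee : e * (T.ε r : F) = 1 := mul_left_cancel₀ hne (by linear_combination h)
  have : e = (T.ε r : F) := by
    calc e = e * ((T.ε r : F) * (T.ε r : F)) := by rw [T.hG.cast_sq, mul_one]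
      _ = _ := by rw [← mul_assoc, hee, one_mul]
  rw [he, this]

theorem σ_xG (r : Fin D.nroots) (t : F) :
    T.σ (xG T.hF r t) = xG T.hF (T.ρ r) ((T.ε r : F) * T.φ t) := by
  rw [T.σ_apply, gmap_xG T.hF T.hF, aut_x_eps]

theorem σ_iterate_x : ∀ (i : ℕ) (r : Fin D.nroots) (t : F), T.σ^[i] (xG T.hF r t) =
    xG T.hF (T.ρ^[i] r : Fin D.nroots) ((eps T.ρ T.ε i r : F) * (T.φ ^ i) t)
  | 0, r, t => by
    simp only [Function.iterate_zero, id_eq, eps, Int.cast_one, one_mul, pow_zero]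
    rfl
  | i + 1, r, t => by
    rw [Function.iterate_succ_apply', σ_iterate_x i, σ_xG, eps_succ, Function.iterate_succ_apply',
      map_mul, map_intCast, pow_succ', RingHom.mul_def, RingHom.comp_apply]
    push_cast
    rw [mul_assoc]

/-- The product over an orbit. -/
noncomputable def Y (r : Fin D.nroots) (t : F) : GL D.Idx F :=
  ((List.range (olen T.ρ T.k r)).map fun i =>
    xG T.hF (T.ρ^[i] r : Fin D.nroots) ((eps T.ρ T.ε i r : F) * (T.φ ^ i) t)).prod

/-- The parameters of the fixed products of an orbit. -/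
def OPar (r : Fin D.nroots) (t : F) : Prop := (T.φ ^ olen T.ρ T.k r) t = t

theorem opar_of_ne {r : Fin D.nroots} (h : T.ρ r ≠ r) (t : F) : OPar T r t := by
  rw [OPar, olen, if_neg h]; exact T.hφ t

theorem φ_pow_fixed {t : F} (ht : T.φ t = t) : ∀ i : ℕ, (T.φ ^ i) t = t
  | 0 => rfl
  | i + 1 => by rw [pow_succ, RingHom.mul_def, RingHom.comp_apply, ht, φ_pow_fixed ht i]

theorem φ_pow_comm (i : ℕ) (t : F) : T.φ ((T.φ ^ i) t) = (T.φ ^ i) (T.φ t) := by
  show (T.φ * T.φ ^ i) t = (T.φ ^ i * T.φ) t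
  rw [← pow_succ', ← pow_succ]

theorem opar_rat {r : Fin D.nroots} {t : F} (ht : T.φ t = t) : OPar T r t := φ_pow_fixed T ht _

theorem Y_of_fixed {r : Fin D.nroots} (h : T.ρ r = r) (t : F) : Y T r t = xG T.hF r t := by
  rw [Y, olen, if_pos h, List.range_one, List.map_singleton, List.prod_singleton]
  simp [eps]

theorem gmap_Y (r : Fin D.nroots) (t : F) : gmap D T.φ (Y T r t) = Y T r (T.φ t) := by
  rw [Y, Y, map_list_prod, List.map_map]
  refine congrArg List.prod (List.map_congr_left fun i _ => ?_)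
  rw [Function.comp_apply, gmap_xG T.hF T.hF, map_mul, map_intCast, φ_pow_comm]

theorem Y_mem_posUnipotent {r : Fin D.nroots} (hr : half D ≤ (r : ℕ)) (t : F) :
    Y T r t ∈ D.posUnipotent F :=
  Subgroup.list_prod_mem _ fun x hx => by
    obtain ⟨i, -, rfl⟩ := List.mem_map.1 hx
    exact mem_posUnipotent_of T.hF (T.ρ^[i] r).2 ((pos_iterate T r i).2 hr) _

variable {mu : List (List ℤ)} (R : RootFacts D mu T.ρ T.ε T.k)
include R

theorem commute_orbit {r : Fin D.nroots} (hr : half D ≤ (r : ℕ)) (i j : ℕ) (t u : F) :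
    Commute (xG T.hF (T.ρ^[i] r : Fin D.nroots) t) (xG T.hF (T.ρ^[j] r : Fin D.nroots) u) := by
  have hp := olen_pos R r
  have hl := olen_le R r
  rw [iterate_mod R i, iterate_mod R j]
  exact commute_of_chk T.hF (Fin.is_lt _) (Fin.is_lt _)
    (R.comm r hr ⟨j % olen T.ρ T.k r, (Nat.mod_lt _ hp).trans_le hl⟩
      ⟨i % olen T.ρ T.k r, (Nat.mod_lt _ hp).trans_le hl⟩) u t

theorem Y_fx {r : Fin D.nroots} (hr : half D ≤ (r : ℕ)) {t : F} (ht : OPar T r t) :
    Y T r t ∈ T.fx := by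
  rw [T.mem_fx, Y, map_list_prod, List.map_map]
  refine Eq.trans ?_ (prod_range_succ_eq
    (f := fun i => xG T.hF (T.ρ^[i] r : Fin D.nroots) ((eps T.ρ T.ε i r : F) * (T.φ ^ i) t))
    (fun i j => commute_orbit T R hr i j _ _) ?_)
  · refine congrArg List.prod (List.map_congr_left fun i _ => ?_)
    rw [Function.comp_apply, σ_xG, eps_succ, Function.iterate_succ_apply', map_mul, map_intCast,
      pow_succ', RingHom.mul_def, RingHom.comp_apply]
    push_cast
    rw [mul_assoc]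
  · rw [R.period r, R.eps_period r, show (T.φ ^ olen T.ρ T.k r) t = t from ht]
    simp [eps]

theorem Y_mem_U1 {r : Fin D.nroots} (hr : half D ≤ (r : ℕ)) {t : F} (ht : OPar T r t) :
    Y T r t ∈ T.U1 := ⟨Y_mem_posUnipotent T hr t, Y_fx T R hr ht⟩

theorem Y_shift {r : Fin D.nroots} (hr : half D ≤ (r : ℕ)) {t : F} (ht : OPar T r t) :
    Y T (T.ρ r) ((T.ε r : F) * T.φ t) = Y T r t := by
  refine Eq.trans ?_ (prod_range_succ_eq
    (f := fun i => xG T.hF (T.ρ^[i] r : Fin D.nroots) ((eps T.ρ T.ε i r : F) * (T.φ ^ i) t))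
    (fun i j => commute_orbit T R hr i j _ _) ?_)
  · rw [Y, show olen T.ρ T.k (T.ρ r) = olen T.ρ T.k r from olen_iterate 1 r]
    refine congrArg List.prod (List.map_congr_left fun i _ => ?_)
    rw [Function.iterate_succ_apply, show eps T.ρ T.ε (i + 1) r = T.ε r * eps T.ρ T.ε i (T.ρ r) from rfl,
      map_mul, map_intCast, pow_succ, RingHom.mul_def, RingHom.comp_apply]
    push_cast
    congr 1
    ring
  · rw [R.period r, R.eps_period r, show (T.φ ^ olen T.ρ T.k r) t = t from ht]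
    simp [eps]

/-- Conjugation by a fixed element carrying `x_r` to `x_r'`. -/
theorem conj_Y {n : GL D.Idx F} (hn : n ∈ T.fx) {r r' : Fin D.nroots}
    (hl : olen T.ρ T.k r' = olen T.ρ T.k r) {d : F}
    (he : ∀ t : F, n * xG T.hF r t * n⁻¹ = xG T.hF r' (d * t)) (t : F) :
    n * Y T r t * n⁻¹ = Y T r' (d * t) := by
  rw [← MulAut.conj_apply, Y, Y, map_list_prod, List.map_map, hl]
  refine congrArg List.prod (List.map_congr_left fun i _ => ?_)
  have hni : ∀ i : ℕ, T.σ^[i] n = n := fun i => Function.iterate_fixed (T.mem_fx.1 hn) i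
  have hσ : ∀ (i : ℕ) (a b : GL D.Idx F), T.σ^[i] (a * b * a⁻¹) =
      T.σ^[i] a * T.σ^[i] b * (T.σ^[i] a)⁻¹ := by
    intro i
    induction i with
    | zero => exact fun _ _ => rfl
    | succ i ih =>
      intro a b
      simp only [Function.iterate_succ_apply', ih, map_mul, map_inv]
  rw [Function.comp_apply, MulAut.conj_apply, ← σ_iterate_x, ← σ_iterate_x, ← he, hσ, hni]

variable {B : ℕ} (hg : GradeFacts D mu B) {C : Cert} (hC : Checks D C)
include hg hC

theorem Y_mem_LV {r : Fin D.nroots} (hr : half D ≤ (r : ℕ)) (t : F) :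
    Y T r t ∈ LV mu (lv D mu r) :=
  Subgroup.list_prod_mem _ fun x hx => by
    obtain ⟨i, -, rfl⟩ := List.mem_map.1 hx
    exact xG_mem_LV T.hF hg hC ((pos_iterate T r i).2 hr) (lv_iterate R i r).ge _

theorem co_Y {r v : Fin D.nroots} (hr : half D ≤ (r : ℕ)) (hv : half D ≤ (v : ℕ))
    (hlv : lv D mu v = lv D mu r) (t : F) : co T.hF v (Y T r t) =
      ((List.range (olen T.ρ T.k r)).map fun i =>
        if v = T.ρ^[i] r then (eps T.ρ T.ε i r : F) * (T.φ ^ i) t else 0).sum := by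
  have hY : Y T r t = wordG T.hF ((List.range (olen T.ρ T.k r)).map fun i =>
      ((T.ρ^[i] r : ℕ), (eps T.ρ T.ε i r : F) * (T.φ ^ i) t)) := by
    rw [Y, wordG, List.map_map]
    rfl
  rw [hY, (co_wordG T.hF hg hv _ fun q hq => ?_).2, List.map_map]
  · refine congrArg List.sum (List.map_congr_left fun i _ => ?_)
    rw [Function.comp_apply, co_xG]
  · obtain ⟨i, -, rfl⟩ := List.mem_map.1 hq
    exact xG_mem_LV T.hF hg hC ((pos_iterate T r i).2 hr) ((lv_iterate R i r).trans hlv.symm).ge _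

theorem co_Y_self {r : Fin D.nroots} (hr : half D ≤ (r : ℕ)) (t : F) :
    co T.hF r (Y T r t) = t := by
  rw [co_Y T R hg hC hr hr rfl, List.sum_map_eq_nsmul_single 0]
  · rw [List.count_eq_one_of_mem List.nodup_range (List.mem_range.2 (olen_pos R r)), one_nsmul]
    simp [eps]
  · intro i hne hi
    rw [if_neg]
    exact (iterate_ne R (i := 0) (olen_pos R r) (List.mem_range.1 hi) (Ne.symm hne))

theorem co_Y_other {r v : Fin D.nroots} (hr : half D ≤ (r : ℕ)) (hv : half D ≤ (v : ℕ))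
    (hlv : lv D mu v = lv D mu r) (h : ∀ i, v ≠ T.ρ^[i] r) (t : F) :
    co T.hF v (Y T r t) = 0 := by
  rw [co_Y T R hg hC hr hv hlv]
  exact List.sum_eq_zero fun x hx => by
    obtain ⟨i, -, rfl⟩ := List.mem_map.1 hx
    rw [if_neg (h i)]

/-- The coordinates of a fixed element. -/
theorem co_fx {m : ℕ} {g : GL D.Idx F} (hU : g ∈ D.posUnipotent F) (hgm : g ∈ LV mu m)
    (hfx : g ∈ T.fx) {r : Fin D.nroots} (hr : half D ≤ (r : ℕ)) (hm : lv D mu r = m) :
    co T.hF (T.ρ r) g = (T.ε r : F) * T.φ (co T.hF r g) := by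
  obtain ⟨j, hj, hne⟩ := T.hF.coef_unit (F := F) r.2
  have h := aut_entry T (gmap D T.φ g) ⟨j, hj⟩ r
  rw [← T.σ_apply, T.mem_fx.1 hfx, gmap_apply,
    entry_eq T.hF hg hC hU hgm hr hm, entry_eq T.hF hg hC hU hgm ((T.rho_pos r).2 hr)
      (by rw [← hm]; exact lv_iterate R 1 r), map_mul, map_intCast,
    show coef D (T.ρ r : ℕ) (T.π ⟨j, hj⟩) = coef D (r : ℕ) j from T.hG.coef _ r, mul_assoc] at h
  have := mul_left_cancel₀ hne h
  rw [← this, mul_comm (co T.hF (T.ρ r) g), ← mul_assoc, T.hG.cast_sq, one_mul]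

theorem co_fx_iterate {m : ℕ} {g : GL D.Idx F} (hU : g ∈ D.posUnipotent F) (hgm : g ∈ LV mu m)
    (hfx : g ∈ T.fx) {r : Fin D.nroots} (hr : half D ≤ (r : ℕ)) (hm : lv D mu r = m) :
    ∀ i, co T.hF (T.ρ^[i] r) g = (eps T.ρ T.ε i r : F) * (T.φ ^ i) (co T.hF r g)
  | 0 => by simp [eps]
  | i + 1 => by
    rw [Function.iterate_succ_apply', co_fx T R hg hC hU hgm hfx ((pos_iterate T r i).2 hr)
      (by rw [lv_iterate R i r, hm]), co_fx_iterate hU hgm hfx hr hm i, eps_succ, map_mul,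
      map_intCast, pow_succ', RingHom.mul_def, RingHom.comp_apply]
    push_cast
    ring

theorem opar_co {m : ℕ} {g : GL D.Idx F} (hU : g ∈ D.posUnipotent F) (hgm : g ∈ LV mu m)
    (hfx : g ∈ T.fx) {r : Fin D.nroots} (hr : half D ≤ (r : ℕ)) (hm : lv D mu r = m) :
    OPar T r (co T.hF r g) := by
  have h := co_fx_iterate T R hg hC hU hgm hfx hr hm (olen T.ρ T.k r)
  rw [R.period r, R.eps_period r, Int.cast_one, one_mul] at h
  exact h.symm

end Cfsg.Agent.Overgroup.Twisted
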