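import Cfsg.Agent.Chev.Twist.D4
import Cfsg.Agent.Chev.Check.D4
import Cfsg.Agent.Overgroup.Twisted.Decide

/-!
The checks for the twisted groups of type ³D₄.
-/

set_option autoImplicit false
set_option maxRecDepth 100000
set_option maxHeartbeats 4000000

namespace Cfsg.Agent.Overgroup.Twisted

open Cfsg.Lie Cfsg.Agent.Chev

/-- Coweights giving the height. -/
def d4Mu' : List (List ℤ) := [[2, 2, 1, 1], [2, 4, 2, 2], [1, 2, 2, 1], [1, 2, 1, 2]]

/-- A root of type D₄ by its index. -/
def d4R (r : ℕ) : Fin chevD4.nroots :=
  ⟨r % chevD4.nroots, Nat.mod_lt _ (by decide +kernel)⟩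

/-- The last short root. -/
def d4S : Fin chevD4.nroots := d4R 17

/-- The moves. -/
def d4Mv (r : Fin chevD4.nroots) : Fin chevD4.nroots × Fin chevD4.nroots :=
  if (r : ℕ) = 12 then (d4R 14, d4R 15) else (d4R 12, d4R 17)

/-- The words reaching the fixed long roots. -/
def d4Reach (r : Fin chevD4.nroots) : List (Fin 2) :=
  if (r : ℕ) = 9 then [1, 0, 1] else if (r : ℕ) = 14 then [0, 1]
  else if (r : ℕ) = 22 then [1] else []

/-- The combinations of fixed roots giving the orbit sums. -/
def d4Sp (a : Fin 2) : List (ℤ × Fin chevD4.nroots) :=
  if a = 0 then [(1, d4R 22), (-1, d4R 14)] else [(1, d4R 14)]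

/-- The word carrying the last short root to the orbit of fundamental roots. -/
def d4WS (_ : Fin 2) : List (Fin 2) := [1, 0]

/-- The node moving the last root. -/
def d4B : Fin chevD4.rank := ⟨1, by decide +kernel⟩

theorem d4_gradeFacts : GradeFacts chevD4 d4Mu' 10 where
  pos := by decide +kernel
  bound := by decide +kernel

theorem d4_rootFacts :
    RootFacts chevD4 d4Mu' d4_031_ρ (fun r => d4_031_E.getD r 0) 3 where
  one_lt := by decide
  period := by decide +kernel
  distinct := by decide +kernel
  eps_period := by decide +kernel
  comm := by decide +kernel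
  grade := by decide +kernel

theorem d4_stepFacts :
    StepFacts chevD4 d4Cert d4Mu' d4_031_ρ (fun r => d4_031_E.getD r 0) 3 d4S d4Mv where
  linear := by decide +kernel
  pos_S := by decide +kernel
  moved_S := by decide +kernel
  min_S := by decide +kernel
  above := by decide +kernel
  move := by decide +kernel

theorem d4_topFacts :
    TopFacts chevD4 d4Cert d4Mu' d4_031_π d4_031_ρ d4Base d4Len d4Sp d4B where
  ρ_top := by decide +kernel
  dom := by decide +kernel
  b_fixed := by decide +kernel
  b_one := by decide +kernel
  top_pos := by decide +kernel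
  radical := by decide +kernel
  span := by decide +kernel

theorem d4_pairFacts :
    PairFacts chevD4 d4Cert d4_031_π d4_031_ρ d4Base d4Len d4Reach d4B (d4R 22) where
  reach_eq := by decide +kernel
  low := by decide +kernel
  r1_pos := by decide +kernel
  r1_fixed := by decide +kernel
  r1_ne := by decide +kernel
  r1_upper := by decide +kernel
  bottom := by decide +kernel

theorem d4_escapeFacts :
    EscapeFacts chevD4 d4_031_π d4_031_ρ 3 d4Base d4Len d4S d4WS 0 d4B where
  cases := by decide +kernel
  olen_base := by decide +kernel
  olen_S := by decide +kernel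
  a0_long := by decide +kernel
  nb_fixed := by decide +kernel
  nb_cartan := by decide +kernel

end Cfsg.Agent.Overgroup.Twisted
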