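import Cfsg.Agent.Chev.Twist.D4Stmts
import Cfsg.Agent.Overgroup.Twisted.D4Data

/-!
The rational points of ³D₄ form a maximal subgroup.
-/

set_option autoImplicit false
set_option maxHeartbeats 1000000
set_option maxRecDepth 100000

namespace Cfsg.Agent.Overgroup.Twisted

open Cfsg.Lie Cfsg.Agent.Chev
open scoped MatrixGroups

universe u

theorem d4_pairs : chevD4.commTerms 12 14 = [(15, 1, 1, 1)] ∧
    chevD4.commTerms 13 14 = [(16, 1, 1, 1)] ∧ chevD4.commTerms 13 15 = [(17, 1, 1, 1)] ∧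
    chevD4.commTerms 18 14 = [(19, -1, 1, 1)] ∧ chevD4.commTerms 18 16 = [(21, -1, 1, 1)] ∧
    chevD4.commTerms 18 15 = [(20, -1, 1, 1)] ∧ chevD4.commTerms 18 17 = [(22, -1, 1, 1)] :=
  ⟨by decide +kernel, by decide +kernel, by decide +kernel, by decide +kernel, by decide +kernel,
    by decide +kernel, by decide +kernel⟩

theorem d4_orbit_roots :
    d4_031_ρ (d4R 18) = d4R 13 ∧ d4_031_ρ (d4R 13) = d4R 12 ∧ d4_031_ρ (d4R 19) = d4R 16 ∧
    d4_031_ρ (d4R 16) = d4R 15 ∧ d4_031_E.getD (d4R 18) 0 = 1 ∧ d4_031_E.getD (d4R 13) 0 = 1 ∧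
    d4_031_E.getD (d4R 19) 0 = -1 ∧ d4_031_E.getD (d4R 16) 0 = 1 ∧
    olen d4_031_ρ 3 (d4R 18) = 3 ∧ olen d4_031_ρ 3 (d4R 19) = 3 ∧ d4_031_ρ (d4R 14) = d4R 14 ∧
    foldW chevD4 d4_031_π d4Base d4Len [1] (d4R 18) = d4R 19 ∧
    chevD4.simple (d4Base 0) = d4R 18 ∧
    (∀ r ∈ [12, 13, 14, 15, 16, 17, 18, 19, 20, 21, 22], half chevD4 ≤ r ∧ r < chevD4.nroots) ∧
    (∀ r ∈ [20, 21, 22], lv chevD4 d4Mu' 17 ≤ lv chevD4 d4Mu' r) ∧
    lv chevD4 d4Mu' 20 = lv chevD4 d4Mu' 17 := by
  decide +kernel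

/-- A root element conjugated by a root element, with a single linear term. -/
theorem conj_single {K : Type u} [Field K] {r s u : ℕ} {N : ℤ}
    (h : chevD4.commTerms r s = [(u, N, 1, 1)]) (hr : r < chevD4.nroots) (hs : s < chevD4.nroots)
    (hne : s ≠ r) (hnn : s ≠ chevD4.neg r) (c v : K) :
    xG facts_chevD4 r c * xG facts_chevD4 s v * (xG facts_chevD4 r c)⁻¹ =
      xG facts_chevD4 s v * xG facts_chevD4 u ((N : K) * c * v) := by
  rw [conj_word facts_chevD4 hr hs hne hnn, ChevalleyDatum.commWord, h]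
  simp [wordG, mul_assoc]

theorem d4_neg : ∀ r ∈ [12, 13, 18], ∀ s ∈ [14, 15, 16, 17], r < chevD4.nroots ∧
    s < chevD4.nroots ∧ s ≠ r ∧ s ≠ chevD4.neg r := by
  decide +kernel

theorem d4_maximal {K : Type u} [Field K] [Fintype K] (φ : K →+* K) (hφ : ∀ t, (φ ^ 3) t = t)
    {q : ℕ} (hq : 2 ≤ q) (hK : Fintype.card K = q ^ 3) (hqφ : ∀ t, φ t = t ^ q)
    (hirr : ∃ t : K, φ t ≠ t) (M : Subgroup (GL chevD4.Idx K))
    (hM : ∀ g, g ∈ M ↔ g ∈ (twistD4 K φ hφ).G1 ∧ gmap chevD4 φ g = g) :
    M ≠ (twistD4 K φ hφ).G1 ∧ ∀ H : Subgroup (GL chevD4.Idx K), M ≤ H →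
      H ≤ (twistD4 K φ hφ).G1 → H = M ∨ H = (twistD4 K φ hφ).G1 := by
  classical
  set T := twistD4 K φ hφ with hT
  have hφ3 : ∀ x, φ (φ (φ x)) = x := fun x => by
    have := hφ x
    rwa [pow_succ, pow_two, RingHom.mul_def, RingHom.mul_def, RingHom.comp_apply,
      RingHom.comp_apply] at this
  refine maximal T d4_gradeFacts d4_checks d4_rootFacts d4_topFacts d4_escapeFacts d4_stepFacts
    d4_pairFacts hirr (fun H hH t ht htH => ?_) M hM
  -- the product of the two other conjugates is a parameter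
  have hsharp : T.y true (0 : Fin 2) (φ t * φ (φ t)) ∈ H := by
    obtain ⟨e18, e13, e19, e16, f18, f13, f19, f16, l18, l19, e14, hW, hbase, hpos, hlv, hlv20⟩ :=
      d4_orbit_roots
    obtain ⟨p1, p2, p3, p4, p5, p6, p7⟩ := d4_pairs
    have hy : ∀ s : K, T.y true (0 : Fin 2) s =
        xG facts_chevD4 18 s * xG facts_chevD4 13 (φ s) * xG facts_chevD4 12 (φ (φ s)) := by
      intro s
      refine (y_eq_Y T d4_gradeFacts d4_checks d4_rootFacts d4_escapeFacts (0 : Fin 2) s).trans ?_
      refine (congrArg (fun r => Y T r s)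
        (show sRoot T.hF (T.base (0 : Fin 2)) = d4R 18 from Fin.ext hbase)).trans ?_
      show Y T (d4R 18) s = _
      rw [Y]
      change ((List.range (olen d4_031_ρ 3 (d4R 18))).map fun i =>
        xG facts_chevD4 (d4_031_ρ^[i] (d4R 18) : Fin chevD4.nroots)
          ((eps d4_031_ρ (fun r => d4_031_E.getD r 0) i (d4R 18) : K) * (φ ^ i) s)).prod = _
      rw [l18]
      simp only [List.range_succ, List.range_zero, List.nil_append, List.map_append, List.map_cons,
        List.map_nil, List.prod_append, List.prod_cons, List.prod_nil, mul_one, eps,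
        Function.iterate_zero, Function.iterate_succ_apply, id_eq, e18, e13, f18, f13,
        Int.cast_one, one_mul, pow_zero, pow_succ, RingHom.mul_def, RingHom.comp_apply,
        RingHom.coe_one]
      rfl
    have hY19 : ∀ s : K, Y T (d4R 19) s = xG facts_chevD4 19 s *
        xG facts_chevD4 16 (-φ s) * xG facts_chevD4 15 (-φ (φ s)) := by
      intro s
      rw [Y]
      change ((List.range (olen d4_031_ρ 3 (d4R 19))).map fun i =>
        xG facts_chevD4 (d4_031_ρ^[i] (d4R 19) : Fin chevD4.nroots)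
          ((eps d4_031_ρ (fun r => d4_031_E.getD r 0) i (d4R 19) : K) * (φ ^ i) s)).prod = _
      rw [l19]
      simp only [List.range_succ, List.range_zero, List.nil_append, List.map_append, List.map_cons,
        List.map_nil, List.prod_append, List.prod_cons, List.prod_nil, mul_one, eps,
        Function.iterate_zero, Function.iterate_succ_apply, id_eq, e19, e16, f19, f16,
        Int.cast_one, Int.cast_neg, one_mul, neg_mul, pow_zero, pow_succ, RingHom.mul_def,
        RingHom.comp_apply, RingHom.coe_one]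
      rfl
    -- the product along the orbit of the height two root
    have hY19H : Y T (d4R 19) (-t) ∈ H := by
      obtain ⟨d, hd0, hdr, hd⟩ := nW_conj T [(1 : Fin 2)] (d4R 18)
      have e : T.pW [(1 : Fin 2)] (d4R 18) = d4R 19 := Fin.ext ((pW_foldW T _ _).trans hW)
      rw [e] at hd
      have hconj := conj_Y T d4_rootFacts (nW_fx T _) (r := d4R 18) (r' := d4R 19)
        (l19.trans l18.symm) hd
      have hn : T.nW [(1 : Fin 2)] ∈ H := hH.rat _ (T.N1_le_G1 (T.nW_mem_N1 _))
        (gmap_nWord T.hF T.hF T.φ _)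
      have hYm : Y T (d4R 18) (-d⁻¹ * t) ∈ H := by
        have e1 : Y T (d4R 18) (-d⁻¹ * t) = T.y true (0 : Fin 2) (-d⁻¹ * t) :=
          (congrArg (fun r => Y T r (-d⁻¹ * t))
            (show sRoot T.hF (T.base (0 : Fin 2)) = d4R 18 from Fin.ext hbase)).symm.trans
          (y_eq_Y T d4_gradeFacts d4_checks d4_rootFacts d4_escapeFacts (0 : Fin 2) _).symm
        have := scale T d4_gradeFacts d4_checks d4_rootFacts d4_escapeFacts hH (w := -d⁻¹) htH
          (show φ (-d⁻¹) = -d⁻¹ by rw [map_neg, map_inv₀, show φ d = d from hdr])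
        exact e1.symm ▸ this
      rw [show -t = d * (-d⁻¹ * t) by rw [neg_mul, mul_neg, mul_inv_cancel_left₀ hd0], ← hconj]
      exact H.mul_mem (H.mul_mem hn hYm) (H.inv_mem hn)
    have h14 : xG facts_chevD4 14 (1 : K) ∈ H := by
      have := Y_mem_rat T d4_gradeFacts d4_checks d4_rootFacts hH (r := d4R 14)
        (hpos 14 (by simp)).1 (t := (1 : K)) (map_one φ)
      rwa [Y_of_fixed T e14] at this
    set P := T.y true (0 : Fin 2) t with hP
    set w := (Y T (d4R 19) (-t))⁻¹ *
      ((xG facts_chevD4 14 (1 : K))⁻¹ * (P * xG facts_chevD4 14 (1 : K) * P⁻¹)) with hw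
    have hwH : w ∈ H := H.mul_mem (H.inv_mem hY19H)
      (H.mul_mem (H.inv_mem h14) (H.mul_mem (H.mul_mem htH h14) (H.inv_mem htH)))
    set u := φ t with hu
    set v := φ u with hv
    have hval : w = (xG facts_chevD4 15 v)⁻¹ * xG facts_chevD4 21 (-(t * u)) * xG facts_chevD4 15 v *
        (xG facts_chevD4 20 (-(t * v)) * xG facts_chevD4 17 (u * v) *
          xG facts_chevD4 22 (-(t * (u * v)))) := by
      have hn : ∀ {r s : ℕ}, r ∈ [12, 13, 18] → s ∈ [14, 15, 16, 17] → _ :=
        fun {r s} hr hs => d4_neg r hr s hs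
      have mk : ∀ {r s u' : ℕ} {N : ℤ}, chevD4.commTerms r s = [(u', N, 1, 1)] → r ∈ [12, 13, 18] →
          s ∈ [14, 15, 16, 17] → ∀ a b : K,
          xG facts_chevD4 r a * xG facts_chevD4 s b * (xG facts_chevD4 r a)⁻¹ =
            xG facts_chevD4 s b * xG facts_chevD4 u' ((N : K) * a * b) := fun h hr hs =>
        conj_single h (hn hr hs).1 (hn hr hs).2.1 (hn hr hs).2.2.1 (hn hr hs).2.2.2
      have c1 := mk p1 (by simp) (by simp) v (1 : K)
      have c2 := mk p2 (by simp) (by simp) u (1 : K)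
      have c3 := mk p3 (by simp) (by simp) u v
      have c4 := mk p4 (by simp) (by simp) t (1 : K)
      have c5 := mk p5 (by simp) (by simp) t u
      have c6 := mk p6 (by simp) (by simp) t v
      have c7 := mk p7 (by simp) (by simp) t (u * v)
      simp only [Int.cast_one, Int.cast_neg, one_mul, mul_one, neg_mul] at c1 c2 c3 c4 c5 c6 c7
      set A := xG facts_chevD4 18 t with hA
      set B := xG facts_chevD4 13 u with hB
      set C := xG facts_chevD4 12 v with hC
      set x14 := xG facts_chevD4 14 (1 : K) with h14'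
      have hPe : P = A * B * C := hy t
      have e2 : P * x14 * P⁻¹ = x14 * xG facts_chevD4 19 (-t) * (xG facts_chevD4 16 u *
          xG facts_chevD4 21 (-(t * u))) * (xG facts_chevD4 15 v * xG facts_chevD4 20 (-(t * v)) *
          (xG facts_chevD4 17 (u * v) * xG facts_chevD4 22 (-(t * (u * v))))) := by
        rw [hPe, show A * B * C * x14 * (A * B * C)⁻¹ = A * (B * (C * x14 * C⁻¹) * B⁻¹) * A⁻¹ by group,
          c1, show B * (x14 * xG facts_chevD4 15 v) * B⁻¹ =
            (B * x14 * B⁻¹) * (B * xG facts_chevD4 15 v * B⁻¹) by group, c2, c3,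
          show A * (x14 * xG facts_chevD4 16 u * (xG facts_chevD4 15 v * xG facts_chevD4 17 (u * v))) *
            A⁻¹ = (A * x14 * A⁻¹) * (A * xG facts_chevD4 16 u * A⁻¹) *
              ((A * xG facts_chevD4 15 v * A⁻¹) * (A * xG facts_chevD4 17 (u * v) * A⁻¹)) by group,
          c4, c5, c6, c7]
      rw [hw, e2, hY19, map_neg, map_neg, neg_neg, neg_neg, ← hu, ← hv]
      group
    have hc : ∀ {r : ℕ}, r ∈ [12, 13, 14, 15, 16, 17, 18, 19, 20, 21, 22] →
        half chevD4 ≤ r ∧ r < chevD4.nroots := fun {r} h => hpos r h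
    set S : Fin chevD4.nroots := d4S with hS
    have hSv : (S : ℕ) = 17 := by decide +kernel
    have hSp : half chevD4 ≤ (S : ℕ) := d4_stepFacts.pos_S
    have hmem : ∀ {r : ℕ}, r ∈ [20, 21, 22] → ∀ a : K,
        xG facts_chevD4 r a ∈ LV d4Mu' (lv chevD4 d4Mu' S) := by
      intro r h a
      have h' : r ∈ [12, 13, 14, 15, 16, 17, 18, 19, 20, 21, 22] := by
        simp only [List.mem_cons, List.not_mem_nil, or_false] at h ⊢; omega
      exact xG_mem_LV facts_chevD4 d4_gradeFacts d4_checks (r := ⟨r, (hc h').2⟩) (hc h').1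
        (by rw [hSv]; exact hlv r h) a
    have hx15 : xG facts_chevD4 15 v ∈ chevD4.posUnipotent K :=
      mem_posUnipotent_of facts_chevD4 (hc (r := 15) (by simp)).2 (hc (r := 15) (by simp)).1 v
    obtain ⟨b1, b2⟩ := co_conj facts_chevD4 d4_gradeFacts hSp
      (posUnipotent_le_LV facts_chevD4 d4_gradeFacts d4_checks (inv_mem hx15))
      (hmem (r := 21) (by simp) (-(t * u)))
    rw [inv_inv] at b1 b2
    have h17 : xG facts_chevD4 17 (u * v) ∈ LV d4Mu' (lv chevD4 d4Mu' S) := by
      have := xG_mem_LV facts_chevD4 d4_gradeFacts d4_checks (r := S) hSp le_rfl (u * v)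
      rwa [hSv] at this ⊢
    have hw1 : w ∈ LV d4Mu' (lv chevD4 d4Mu' S) := by
      rw [hval]
      exact mul_mem b1 (mul_mem (mul_mem (hmem (by simp) _) h17) (hmem (by simp) _))
    have hco : co facts_chevD4 S w = u * v := by
      have cx : ∀ r : ℕ, r < chevD4.nroots → ∀ a : K, co facts_chevD4 S (xG facts_chevD4 r a) =
          if r = 17 then a else 0 := fun r hr a => by
        rw [co_xG facts_chevD4 S ⟨r, hr⟩ a]
        simp only [Fin.ext_iff, hSv, eq_comm]
      rw [hval, co_mul facts_chevD4 d4_gradeFacts hSp b1 (mul_mem (mul_mem (hmem (by simp) _) h17)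
          (hmem (by simp) _)), b2,
        co_mul facts_chevD4 d4_gradeFacts hSp (mul_mem (hmem (by simp) _) h17) (hmem (by simp) _),
        co_mul facts_chevD4 d4_gradeFacts hSp (hmem (by simp) _) h17,
        cx 21 (hc (by simp)).2, cx 20 (hc (by simp)).2, cx 17 (hc (by simp)).2,
        cx 22 (hc (by simp)).2]
      simp
    have hwU : w ∈ T.U1 := by
      refine ⟨?_, T.G1_le_fx (hH.le hwH)⟩
      have hp : ∀ {r : ℕ}, r ∈ [12, 13, 14, 15, 16, 17, 18, 19, 20, 21, 22] → ∀ a : K,
          xG facts_chevD4 r a ∈ chevD4.posUnipotent K :=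
        fun h a => mem_posUnipotent_of facts_chevD4 (hc h).2 (hc h).1 a
      rw [hval]
      exact Subgroup.mul_mem _ (Subgroup.mul_mem _ (Subgroup.mul_mem _ (Subgroup.inv_mem _ hx15)
        (hp (by simp) _)) hx15) (Subgroup.mul_mem _ (Subgroup.mul_mem _ (hp (by simp) _)
          (hp (by simp) _)) (hp (by simp) _))
    have hpar : OPar T S (u * v) := opar_of_ne T d4_stepFacts.moved_S _
    have hY := Y_mem_U1 T d4_rootFacts hSp hpar
    have hYm := Y_mem_LV T d4_rootFacts d4_gradeFacts d4_checks hSp (u * v)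
    set g' := (Y T S (u * v))⁻¹ * w with hg'
    have hg'f := above_fixed T d4_gradeFacts d4_checks d4_rootFacts d4_stepFacts
      (g := g') (m := lv chevD4 d4Mu' S) (mul_mem (inv_mem hY) hwU) (mul_mem (inv_mem hYm) hw1)
      le_rfl fun _ => by
        rw [hg', co_mul T.hF d4_gradeFacts hSp (inv_mem hYm) hw1,
          co_inv T.hF d4_gradeFacts hSp hYm,
          co_Y_self T d4_rootFacts d4_gradeFacts d4_checks hSp]
        show -(u * v) + co facts_chevD4 S w = 0
        rw [hco, neg_add_cancel]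
    have hYH : Y T S (u * v) ∈ H := by
      have := H.mul_mem hwH (H.inv_mem (hH.rat g'
        (T.U1_le_G1 (mul_mem (inv_mem hY) hwU)) hg'f))
      rwa [hg', mul_inv_rev, inv_inv, mul_inv_cancel_left] at this
    obtain ⟨d, hd0, hdr, hd⟩ := y_of_S T d4_gradeFacts d4_checks d4_rootFacts d4_escapeFacts hH hYH
    have := scale T d4_gradeFacts d4_checks d4_rootFacts d4_escapeFacts hH (w := d⁻¹) hd
      (by rw [map_inv₀, hdr])
    rwa [inv_mul_cancel_left₀ hd0] at this
  -- `1`, `t` and `t⁻¹` span the field over the rational elements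
  have ht0 : t ≠ 0 := fun e => ht (by rw [e, map_zero])
  have hφt : φ t ≠ t := ht
  have hN : φ (t * (φ t * φ (φ t))) = t * (φ t * φ (φ t)) := by
    rw [map_mul, map_mul, hφ3]; ring
  have hinv : T.y true (0 : Fin 2) t⁻¹ ∈ H := by
    have := scale T d4_gradeFacts d4_checks d4_rootFacts d4_escapeFacts hH hsharp
      (w := (t * (φ t * φ (φ t)))⁻¹) (show φ _ = _ by rw [map_inv₀, hN])
    have hne : φ t * φ (φ t) ≠ 0 :=
      mul_ne_zero ((map_ne_zero φ).2 ht0) ((map_ne_zero φ).2 ((map_ne_zero φ).2 ht0))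
    rwa [mul_inv, mul_assoc, inv_mul_cancel₀ hne, mul_one] at this
  let R := {x : K // φ x = x}
  have hcard : Nat.card R = q := by
    have e := card_fixed (l := 1) hq hK (one_dvd 3)
    rw [pow_one] at e
    rw [← e]
    exact Nat.card_congr (Equiv.subtypeEquivRight fun x => by rw [hqφ])
  let f : R × R × R → K := fun x => (x.1 : K) + (x.2.1 : K) * t + (x.2.2 : K) * t⁻¹
  have hf : Function.Injective f := by
    intro x y e
    set a := (x.1 : K) - y.1 with ha
    set b := (x.2.1 : K) - y.2.1 with hb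
    set c := (x.2.2 : K) - y.2.2 with hc
    have h0 : b * t ^ 2 + a * t + c = 0 := by
      have e' : a + b * t + c * t⁻¹ = 0 := by
        simp only [f] at e
        rw [ha, hb, hc]
        linear_combination e
      field_simp at e'
      linear_combination e'
    have hr : φ a = a ∧ φ b = b ∧ φ c = c :=
      ⟨by rw [ha, map_sub, x.1.2, y.1.2], by rw [hb, map_sub, x.2.1.2, y.2.1.2],
        by rw [hc, map_sub, x.2.2.2, y.2.2.2]⟩
    have h1 : b * φ t ^ 2 + a * φ t + c = 0 := by
      have := congrArg φ h0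
      simpa [map_add, map_mul, map_pow, hr.1, hr.2.1, hr.2.2] using this
    have h2 : b * φ (φ t) ^ 2 + a * φ (φ t) + c = 0 := by
      have := congrArg φ h1
      simpa [map_add, map_mul, map_pow, hr.1, hr.2.1, hr.2.2] using this
    have n1 : t - φ t ≠ 0 := sub_ne_zero.2 (Ne.symm hφt)
    have n2 : t - φ (φ t) ≠ 0 := sub_ne_zero.2 fun e2 => hφt (by
      have := hφ3 t
      rwa [← e2] at this)
    have n3 : φ t - φ (φ t) ≠ 0 := sub_ne_zero.2 fun e2 => hφt (φ.injective e2.symm)
    have s1 : b * (t + φ t) + a = 0 :=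
      (mul_eq_zero.1 (show (t - φ t) * (b * (t + φ t) + a) = 0 by linear_combination h0 - h1))
        |>.resolve_left n1
    have s2 : b * (t + φ (φ t)) + a = 0 :=
      (mul_eq_zero.1 (show (t - φ (φ t)) * (b * (t + φ (φ t)) + a) = 0 by
        linear_combination h0 - h2)) |>.resolve_left n2
    have hb0 : b = 0 :=
      (mul_eq_zero.1 (show b * (φ t - φ (φ t)) = 0 by linear_combination s1 - s2)).resolve_right n3
    have ha0 : a = 0 := by rw [hb0, zero_mul, zero_add] at s1; exact s1
    have hc0 : c = 0 := by rw [hb0, ha0] at h0; simpa using h0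
    exact Prod.ext (Subtype.ext (sub_eq_zero.1 ha0))
      (Prod.ext (Subtype.ext (sub_eq_zero.1 hb0)) (Subtype.ext (sub_eq_zero.1 hc0)))
  have hsurj : Function.Surjective f := by
    refine (Nat.bijective_iff_injective_and_card f).2 ⟨hf, ?_⟩ |>.2
    rw [Nat.card_prod, Nat.card_prod, hcard, Nat.card_eq_fintype_card, hK]
    ring
  intro s
  obtain ⟨⟨a, b, c⟩, rfl⟩ := hsurj s
  show T.y true (0 : Fin 2) ((a : K) + (b : K) * t + (c : K) * t⁻¹) ∈ H
  have := H.mul_mem (H.mul_mem
    (rat_param T d4_gradeFacts d4_checks d4_rootFacts d4_escapeFacts hH a.2)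
    (scale T d4_gradeFacts d4_checks d4_rootFacts d4_escapeFacts hH htH b.2))
    (scale T d4_gradeFacts d4_checks d4_rootFacts d4_escapeFacts hH hinv c.2)
  have e1 := T.y_mul true (0 : Fin 2) (a : K) ((b : K) * t)
  have e2 := T.y_mul true (0 : Fin 2) ((a : K) + (b : K) * t) ((c : K) * t⁻¹)
  exact ((congrArg (· * _) e1).trans e2) ▸ this

end Cfsg.Agent.Overgroup.Twisted
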