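import Cfsg.Agent.Chev.Twist.E6Stmts
import Cfsg.Agent.Overgroup.Twisted.E6Data

/-!
The rational points of ²E₆ form a maximal subgroup.
-/

set_option autoImplicit false
set_option maxHeartbeats 1000000
set_option maxRecDepth 100000

namespace Cfsg.Agent.Overgroup.Twisted

open Cfsg.Lie Cfsg.Agent.Chev
open scoped MatrixGroups

universe u

theorem e6_maximal {K : Type u} [Field K] (φ : K →+* K) (hφ : ∀ t, (φ ^ 2) t = t)
    (hirr : ∃ t : K, φ t ≠ t) (M : Subgroup (GL chevE6.Idx K))
    (hM : ∀ g, g ∈ M ↔ g ∈ (twistE6 K φ hφ).G1 ∧ gmap chevE6 φ g = g) :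
    M ≠ (twistE6 K φ hφ).G1 ∧ ∀ H : Subgroup (GL chevE6.Idx K), M ≤ H →
      H ≤ (twistE6 K φ hφ).G1 → H = M ∨ H = (twistE6 K φ hφ).G1 := by
  set T := twistE6 K φ hφ with hT
  refine maximal T e6_gradeFacts e6_checks e6_rootFacts e6_topFacts e6_escapeFacts e6_stepFacts
    e6_pairFacts hirr (fun H hH t ht htH s => ?_) M hM
  have h2 : ∀ x, φ (φ x) = x := fun x => by
    have := hφ x
    rwa [pow_two, RingHom.mul_def, RingHom.comp_apply] at this
  have hne : t - φ t ≠ 0 := sub_ne_zero.2 fun e => ht e.symm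
  set c := (s - φ s) / (t - φ t) with hc
  have hcr : φ c = c := by
    rw [hc, map_div₀, map_sub, map_sub, h2, h2, ← neg_sub s, ← neg_sub t, neg_div_neg_eq]
  have har : φ (s - c * t) = s - c * t := by
    have : c * (t - φ t) = s - φ s := by rw [hc, div_mul_cancel₀ _ hne]
    rw [map_sub, map_mul, hcr]
    linear_combination this
  have := H.mul_mem
    (rat_param T e6_gradeFacts e6_checks e6_rootFacts e6_escapeFacts hH har)
    (scale T e6_gradeFacts e6_checks e6_rootFacts e6_escapeFacts hH htH hcr)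
  have e := T.y_mul true (1 : Fin 4) (s - c * t) (c * t)
  rw [sub_add_cancel] at e
  exact e ▸ this

end Cfsg.Agent.Overgroup.Twisted
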