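import Cfsg.Agent.Chev.Twist.Group
import Cfsg.Agent.Chev.Sound
import Cfsg.Agent.Overgroup.Twisted.Orbit

/-!
The unipotent and Borel parts of an overgroup of the rational points of a twisted group.
-/

set_option autoImplicit false
set_option linter.unusedSectionVars false

namespace Cfsg.Agent.Overgroup.Twisted

open Cfsg.Lie Cfsg.Agent.Chev
open scoped MatrixGroups

universe u

variable {D : ChevalleyDatum}

/-- The linear coefficient at `v` of the commutator of `r` and `s`, by the tables. -/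
noncomputable def coefN (D : ChevalleyDatum) (C : Cert) (r s v : ℕ) : ℤ :=
  ((C.cTerms D r s).map fun a => if a.1 = v then a.2.1 else 0).sum

/-- The coefficient at `v` of the commutator of `r` and the fixed product of `s`. -/
noncomputable def wt (D : ChevalleyDatum) (C : Cert) (ρ : Equiv.Perm (Fin D.nroots))
    (ε : Fin D.nroots → ℤ) (k : ℕ) (s v r : Fin D.nroots) : ℤ :=
  ((List.range (olen ρ k s)).map fun l => coefN D C r (ρ^[l] s : Fin D.nroots) v * eps ρ ε l s).sum

/-- The terms of the commutators of positive roots are linear and add the grades. -/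
def Linear (D : ChevalleyDatum) (C : Cert) (mu : List (List ℤ)) : Prop :=
  ∀ r s : Fin D.nroots, half D ≤ (r : ℕ) → half D ≤ (s : ℕ) → ∀ a ∈ C.cTerms D r s,
    a.2.2.1 = 1 ∧ a.2.2.2 = 1 ∧ lv D mu a.1 = lv D mu r + lv D mu s

/-- The commutator with the fixed product of `s` carries irrational coordinates at `r` to `v`. -/
structure Move (D : ChevalleyDatum) (C : Cert) (mu : List (List ℤ))
    (ρ : Equiv.Perm (Fin D.nroots)) (ε : Fin D.nroots → ℤ) (k : ℕ) (r s v : Fin D.nroots) : Prop
    where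
  pos_s : half D ≤ (s : ℕ)
  pos_v : half D ≤ (v : ℕ)
  lv_v : lv D mu v = lv D mu r + lv D mu s
  others : ∀ r' : Fin D.nroots, half D ≤ (r' : ℕ) → lv D mu r' = lv D mu r → r ≤ r' →
    (∀ i : Fin k, ρ^[(i : ℕ)] r ≠ r') → wt D C ρ ε k s v r' = 0
  good : ∃ e ∈ ([1, -1] : List ℤ), ∃ j : Fin k,
    (∀ i : Fin k, eps ρ ε i r * wt D C ρ ε k s v (ρ^[(i : ℕ)] r) = if i = j then e else 0) ∨
    (∀ i : Fin k, eps ρ ε i r * wt D C ρ ε k s v (ρ^[(i : ℕ)] r) = if i = j then 0 else e)

/-- The facts giving the alternative for the unipotent part, with the last short root `S`. -/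
structure StepFacts (D : ChevalleyDatum) (C : Cert) (mu : List (List ℤ))
    (ρ : Equiv.Perm (Fin D.nroots)) (ε : Fin D.nroots → ℤ) (k : ℕ) (S : Fin D.nroots)
    (mv : Fin D.nroots → Fin D.nroots × Fin D.nroots) : Prop where
  linear : Linear D C mu
  pos_S : half D ≤ (S : ℕ)
  moved_S : ρ S ≠ S
  min_S : ∀ i : Fin k, S ≤ ρ^[(i : ℕ)] S
  above : ∀ r : Fin D.nroots, half D ≤ (r : ℕ) → lv D mu S ≤ lv D mu r →
    ρ r = r ∨ ∃ i : Fin k, ρ^[(i : ℕ)] S = r
  move : ∀ r : Fin D.nroots, half D ≤ (r : ℕ) → ρ r = r ∨ (∃ i : Fin k, ρ^[(i : ℕ)] S = r) ∨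
    (∃ i : Fin k, ρ^[(i : ℕ)] r < r) ∨ Move D C mu ρ ε k r (mv r).1 (mv r).2

variable {F : Type u} [Field F]

/-- An overgroup of the rational points in a twisted group. -/
structure Hyp (T : Twist D F) (H : Subgroup (GL D.Idx F)) : Prop where
  le : H ≤ T.G1
  rat : ∀ g ∈ T.G1, gmap D T.φ g = g → g ∈ H

section

variable (hF : Facts.{u} D) {mu : List (List ℤ)} {B : ℕ} (hg : GradeFacts D mu B) {C : Cert}
  (hC : Checks D C)
include hg hC

theorem bracket_x (hl : Linear D C mu) {r s v : Fin D.nroots} (hr : half D ≤ (r : ℕ))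
    (hs : half D ≤ (s : ℕ)) (hv : half D ≤ (v : ℕ)) (hlv : lv D mu v = lv D mu r + lv D mu s)
    (t w : F) :
    co hF v (xG hF r t * xG hF s w * (xG hF r t)⁻¹ * (xG hF s w)⁻¹) =
      (coefN D C r s v : F) * t * w := by
  by_cases hsr : s = r
  · subst hsr
    rw [coefN, cTerms_of_excluded hC s.2 s.2 (Or.inl rfl), List.map_nil, List.sum_nil,
      Int.cast_zero, zero_mul, zero_mul, xG_mul, xG_inv, xG_inv, xG_mul, xG_mul,
      show t + w + -t + -w = 0 by ring, xG_zero, co_one]
  have hne : (s : ℕ) ≠ D.neg r := by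
    have := (neg_lt_half_iff hF r.2).2 hr; omega
  rw [conj_word hF r.2 s.2 (fun e => hsr (Fin.ext e)) hne]
  have hmem : ∀ q ∈ D.commWord F r s (-t) w, xG hF q.1 q.2 ∈ LV mu (lv D mu v) := by
    intro q hq
    obtain ⟨a, ha, rfl⟩ := List.mem_map.1 hq
    have hlt := hF.comm_lt r s r.2 s.2 a ha
    have hpos := (hF.comm_pos r s r.2 s.2 hr hs a ha).1
    rw [commTerms_eq hC] at ha
    exact xG_mem_LV hF hg hC (r := ⟨a.1, hlt⟩) (show half D ≤ a.1 by omega)
      (by rw [hlv]; exact (hl r s hr hs a ha).2.2.ge) _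
  obtain ⟨hW, hco⟩ := co_wordG hF hg hv _ hmem
  rw [(co_conj hF hg hv (xG_mem_LV hF hg hC hs (lv_pos hF hg hs) w) hW).2, hco,
    ChevalleyDatum.commWord, List.map_map, commTerms_eq hC, coefN,
    show ((List.map (fun a : ℕ × ℤ × ℕ × ℕ => if a.1 = (v : ℕ) then a.2.1 else 0)
      (C.cTerms D r s)).sum : F) = ((C.cTerms D r s).map fun a =>
        if a.1 = (v : ℕ) then (a.2.1 : F) else 0).sum by
      rw [Int.cast_list_sum, List.map_map]
      exact congrArg List.sum (List.map_congr_left fun a _ => by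
        simp only [Function.comp_apply]; split <;> simp),
    ← List.sum_map_mul_right, ← List.sum_map_mul_right]
  refine congrArg List.sum (List.map_congr_left fun a ha => ?_)
  obtain ⟨h1, h2, -⟩ := hl r s hr hs a ha
  have hlt : a.1 < D.nroots := hF.comm_lt r s r.2 s.2 a (by rwa [commTerms_eq hC])
  simp only [Function.comp_apply, h1, h2, pow_one, neg_neg]
  rw [co_xG hF v ⟨a.1, hlt⟩]
  by_cases e : a.1 = (v : ℕ)
  · rw [if_pos (Fin.ext e.symm), if_pos e]
  · rw [if_neg (fun e' => e (by rw [e'])), if_neg e, zero_mul, zero_mul]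

omit hC in
theorem bracket_mul_left {v : Fin D.nroots} (hv : half D ≤ (v : ℕ)) {m n : ℕ} (hm : 0 < m)
    (hlv : lv D mu v = m + n) {g g' h : GL D.Idx F} (h1 : g ∈ LV mu m) (h2 : g' ∈ LV mu m)
    (h3 : h ∈ LV mu n) : co hF v (g * g' * h * (g * g')⁻¹ * h⁻¹) =
      co hF v (g * h * g⁻¹ * h⁻¹) + co hF v (g' * h * g'⁻¹ * h⁻¹) := by
  have a1 := comm_mem_LV h1 h3
  have a2 := comm_mem_LV h2 h3
  rw [← hlv] at a1 a2
  obtain ⟨b1, b2⟩ := co_conj hF hg hv (LV_anti hm h1) a2
  rw [show g * g' * h * (g * g')⁻¹ * h⁻¹ =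
    g * (g' * h * g'⁻¹ * h⁻¹) * g⁻¹ * (g * h * g⁻¹ * h⁻¹) by group,
    co_mul hF hg hv b1 a1, b2, add_comm]

omit hC in
theorem bracket_mul_right {v : Fin D.nroots} (hv : half D ≤ (v : ℕ)) {m n : ℕ} (hn : 0 < n)
    (hlv : lv D mu v = m + n) {g h h' : GL D.Idx F} (h1 : g ∈ LV mu m) (h2 : h ∈ LV mu n)
    (h3 : h' ∈ LV mu n) : co hF v (g * (h * h') * g⁻¹ * (h * h')⁻¹) =
      co hF v (g * h * g⁻¹ * h⁻¹) + co hF v (g * h' * g⁻¹ * h'⁻¹) := by
  have a1 := comm_mem_LV h1 h2
  have a2 := comm_mem_LV h1 h3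
  rw [← hlv] at a1 a2
  obtain ⟨b1, b2⟩ := co_conj hF hg hv (LV_anti hn h2) a2
  rw [show g * (h * h') * g⁻¹ * (h * h')⁻¹ =
    g * h * g⁻¹ * h⁻¹ * (h * (g * h' * g⁻¹ * h'⁻¹) * h⁻¹) by group,
    co_mul hF hg hv a1 b1, b2]

omit hC in
theorem bracket_list_left {v : Fin D.nroots} (hv : half D ≤ (v : ℕ)) {m n : ℕ} (hm : 0 < m)
    (hlv : lv D mu v = m + n) {h : GL D.Idx F} (h3 : h ∈ LV mu n) :
    ∀ L : List (GL D.Idx F), (∀ g ∈ L, g ∈ LV mu m) →
      co hF v (L.prod * h * L.prod⁻¹ * h⁻¹) = (L.map fun g => co hF v (g * h * g⁻¹ * h⁻¹)).sum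
  | [], _ => by simp [co_one]
  | g :: L, hL => by
    rw [List.prod_cons, List.map_cons, List.sum_cons,
      bracket_mul_left hF hg hv hm hlv (hL g List.mem_cons_self)
        (list_prod_mem fun x hx => hL x (List.mem_cons_of_mem _ hx)) h3,
      bracket_list_left hv hm hlv h3 L fun x hx => hL x (List.mem_cons_of_mem _ hx)]

omit hC in
theorem bracket_list_right {v : Fin D.nroots} (hv : half D ≤ (v : ℕ)) {m n : ℕ} (hn : 0 < n)
    (hlv : lv D mu v = m + n) {g : GL D.Idx F} (h1 : g ∈ LV mu m) :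
    ∀ L : List (GL D.Idx F), (∀ h ∈ L, h ∈ LV mu n) →
      co hF v (g * L.prod * g⁻¹ * L.prod⁻¹) = (L.map fun h => co hF v (g * h * g⁻¹ * h⁻¹)).sum
  | [], _ => by simp [co_one]
  | h :: L, hL => by
    rw [List.prod_cons, List.map_cons, List.sum_cons,
      bracket_mul_right hF hg hv hn hlv h1 (hL h List.mem_cons_self)
        (list_prod_mem fun x hx => hL x (List.mem_cons_of_mem _ hx)),
      bracket_list_right hv hn hlv h1 L fun x hx => hL x (List.mem_cons_of_mem _ hx)]

end

variable (T : Twist D F) {mu : List (List ℤ)} {B : ℕ} (hg : GradeFacts D mu B) {C : Cert}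
  (hC : Checks D C) (R : RootFacts D mu T.ρ T.ε T.k)

theorem gmap_y (s : Bool) (a : Fin T.m) (t : F) :
    gmap D T.φ (T.y s a t) = T.y s a (T.φ t) := by
  rw [Twist.y, Twist.y, Twist.yv, Twist.yv, map_list_prod, List.map_map]
  refine congrArg List.prod (List.map_congr_left fun j _ => ?_)
  rw [Function.comp_apply, gmap_xG T.hF T.hF, φ_pow_comm]

theorem gmap_G1 {g : GL D.Idx F} (h : g ∈ T.G1) : gmap D T.φ g ∈ T.G1 := by
  refine ((Subgroup.closure_le _).2 ?_ : T.G1 ≤ T.G1.comap (gmap D T.φ)) h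
  rintro _ ⟨s, a, t, ht, rfl⟩
  show gmap D T.φ (T.y s a t) ∈ T.G1
  rw [gmap_y]
  refine T.y_mem_G1 ?_ s
  show (T.φ ^ T.len a) (T.φ t) = T.φ t
  rw [← φ_pow_comm, show (T.φ ^ T.len a) t = t from ht]

/-- A combination of conjugates with one exceptional coefficient detects rationality. -/
theorem rat_of_good {n : ℕ → ℤ} {t : F} {e : ℤ} (he : e ∈ ([1, -1] : List ℤ)) {j : Fin T.k}
    (h : (∀ i : Fin T.k, n i = if i = j then e else 0) ∨
      (∀ i : Fin T.k, n i = if i = j then 0 else e))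
    (hx : T.φ (((List.range T.k).map fun i => (n i : F) * (T.φ ^ i) t).sum) =
      ((List.range T.k).map fun i => (n i : F) * (T.φ ^ i) t).sum) : T.φ t = t := by
  have he0 : (e : F) ≠ 0 := by
    simp only [List.mem_cons, List.not_mem_nil, or_false] at he
    rcases he with rfl | rfl <;> simp
  have hinj : T.φ ((T.φ ^ (j : ℕ)) t) = (T.φ ^ (j : ℕ)) t → T.φ t = t := fun h =>
    (T.φ ^ (j : ℕ)).injective (by rw [← φ_pow_comm, h])
  refine hinj ?_
  rcases h with h | h
  · rw [List.sum_map_eq_nsmul_single (j : ℕ), List.count_eq_one_of_mem List.nodup_range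
      (List.mem_range.2 j.2), one_nsmul, h j, if_pos rfl, map_mul, map_intCast] at hx
    · exact mul_left_cancel₀ he0 hx
    · intro i hne hi
      rw [h ⟨i, List.mem_range.1 hi⟩, if_neg (fun e' => hne (congrArg Fin.val e')), Int.cast_zero,
        zero_mul]
  · set tr := ∑ i ∈ Finset.range T.k, (T.φ ^ i) t with htr
    have hsum : ((List.range T.k).map fun i => (n i : F) * (T.φ ^ i) t).sum =
        (e : F) * (tr - (T.φ ^ (j : ℕ)) t) := by
      show ∑ i ∈ Finset.range T.k, (n i : F) * (T.φ ^ i) t = _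
      rw [htr, ← Finset.sum_erase_eq_sub (Finset.mem_range.2 j.2), Finset.mul_sum,
        ← Finset.add_sum_erase _ _ (Finset.mem_range.2 j.2), h j, if_pos rfl, Int.cast_zero,
        zero_mul, zero_add]
      refine Finset.sum_congr rfl fun i hi => ?_
      obtain ⟨hne, hi⟩ := Finset.mem_erase.1 hi
      rw [h ⟨i, Finset.mem_range.1 hi⟩, if_neg (fun e' => hne (congrArg Fin.val e'))]
    have htr' : T.φ tr = tr := by
      have h1 := Finset.sum_range_succ (fun i => (T.φ ^ i) t) T.k
      have h2 := Finset.sum_range_succ' (fun i => (T.φ ^ i) t) T.k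
      rw [h1, T.hφ t, pow_zero, RingHom.coe_one, id_eq] at h2
      rw [htr, map_sum, add_right_cancel h2]
      exact Finset.sum_congr rfl fun i _ => by rw [pow_succ']; rfl
    rw [hsum, map_mul, map_intCast, map_sub, htr'] at hx
    exact sub_right_injective (mul_left_cancel₀ he0 hx)

include hg hC R

theorem Y_mem_G1 {r : Fin D.nroots} (hr : half D ≤ (r : ℕ)) {t : F} (ht : OPar T r t) :
    Y T r t ∈ T.G1 := T.U1_le_G1 (Y_mem_U1 T R hr ht)

theorem Y_mem_rat {H : Subgroup (GL D.Idx F)} (hH : Hyp T H) {r : Fin D.nroots}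
    (hr : half D ≤ (r : ℕ)) {t : F} (ht : T.φ t = t) : Y T r t ∈ H :=
  hH.rat _ (Y_mem_G1 T hg hC R hr (opar_rat T ht)) (by rw [gmap_Y, ht])

/-- The coordinate at the target of a move. -/
theorem co_move (hl : Linear D C mu) {r s v : Fin D.nroots} (hr : half D ≤ (r : ℕ))
    (hns : T.ρ r ≠ r) (mvh : Move D C mu T.ρ T.ε T.k r s v) {g : GL D.Idx F}
    (hU : g ∈ D.posUnipotent F) (hgm : g ∈ LV mu (lv D mu r)) (hfx : g ∈ T.fx)
    (hlow : ∀ r' : Fin D.nroots, half D ≤ (r' : ℕ) → lv D mu r' = lv D mu r → r' < r →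
      co T.hF r' g = 0) :
    co T.hF v (g * Y T s 1 * g⁻¹ * (Y T s 1)⁻¹) =
      ((List.range T.k).map fun i =>
        ((eps T.ρ T.ε i r * wt D C T.ρ T.ε T.k s v (T.ρ^[i] r) : ℤ) : F) *
          (T.φ ^ i) (co T.hF r g)).sum := by
  set m := lv D mu r with hm
  set n := lv D mu s with hn
  have hm0 : 0 < m := lv_pos T.hF hg hr
  have hn0 : 0 < n := lv_pos T.hF hg mvh.pos_s
  have hv := mvh.pos_v
  have hlv : lv D mu v = m + n := mvh.lv_v
  have hYs := Y_mem_LV T R hg hC mvh.pos_s (1 : F)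
  set f : GL D.Idx F → F := fun x => co T.hF v (x * Y T s 1 * x⁻¹ * (Y T s 1)⁻¹) with hf
  have hfx1 : ∀ (r' : Fin D.nroots), half D ≤ (r' : ℕ) → lv D mu r' = m → ∀ t : F,
      f (xG T.hF r' t) = (wt D C T.ρ T.ε T.k s v r' : F) * t := by
    intro r' hr' he t
    rw [hf]
    show co T.hF v (xG T.hF r' t * ((List.range _).map _).prod * _ * _) = _
    rw [Y, bracket_list_right T.hF hg hv hn0 hlv (xG_mem_LV T.hF hg hC hr' he.ge t) _ (fun x hx => ?_),
      List.map_map, wt, Int.cast_list_sum, List.map_map, ← List.sum_map_mul_right]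
    · refine congrArg List.sum (List.map_congr_left fun l _ => ?_)
      have hsl := (pos_iterate T s l).2 mvh.pos_s
      simp only [Function.comp_apply]
      rw [bracket_x T.hF hg hC hl hr' hsl hv (by rw [hlv, he, lv_iterate R l s]), map_one, mul_one]
      push_cast
      ring
    · obtain ⟨l, -, rfl⟩ := List.mem_map.1 hx
      exact xG_mem_LV T.hF hg hC ((pos_iterate T s l).2 mvh.pos_s) (lv_iterate R l s).ge _
  set t := co T.hF r g with ht
  have hY := Y_mem_LV T R hg hC hr t
  set g' := (Y T r t)⁻¹ * g with hg'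
  have hg'U : g' ∈ D.posUnipotent F := mul_mem (inv_mem (Y_mem_posUnipotent T hr t)) hU
  have hg'm : g' ∈ LV mu m := mul_mem (inv_mem hY) hgm
  have hsplit : f g = f (Y T r t) + f g' := by
    conv_lhs => rw [show g = Y T r t * g' by rw [hg', mul_inv_cancel_left]]
    exact bracket_mul_left T.hF hg hv hm0 hlv hY hg'm hYs
  have hzero : f g' = 0 := by
    obtain ⟨c, hc, hc0, hc1⟩ := exists_coords T.hF hg hC hg'U hg'm
    rw [hf, hc]
    show co T.hF v ((List.map _ _).prod * Y T s 1 * _ * _) = 0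
    rw [prodFrom, wordG, List.map_map, bracket_list_left T.hF hg hv hm0 hlv hYs _ (fun x hx => ?_),
      List.map_map]
    · refine List.sum_eq_zero fun x hx => ?_
      obtain ⟨j, hj, rfl⟩ := List.mem_map.1 hx
      rw [List.mem_range'_1] at hj
      obtain ⟨r', rfl⟩ : ∃ r' : Fin D.nroots, (r' : ℕ) = j := ⟨⟨j, by omega⟩, rfl⟩
      show f (xG T.hF r' (c r')) = 0
      rcases lt_trichotomy (lv D mu r') m with hlt | he | hgt
      · simp [hf, hc0 r' hj.1 hlt, xG_zero, co_one]
      · rw [hfx1 r' hj.1 he]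
        by_cases horb : ∃ i : Fin T.k, T.ρ^[(i : ℕ)] r = r'
        · obtain ⟨i, rfl⟩ := horb
          rw [← hc1 _ hj.1 he, hg', co_mul T.hF hg hj.1 (by rw [he]; exact inv_mem hY) (by rw [he]; exact hgm),
            co_inv T.hF hg hj.1 (by rw [he]; exact hY),
            co_fx_iterate T R hg hC hU hgm hfx hr rfl i,
            co_fx_iterate T R hg hC (Y_mem_posUnipotent T hr t) hY
              (Y_fx T R hr (opar_co T R hg hC hU hgm hfx hr rfl)) hr rfl i,
            co_Y_self T R hg hC hr t, ← ht, neg_add_cancel, mul_zero]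
        · by_cases hlt' : r' < r
          · rw [← hc1 _ hj.1 he, hg', co_mul T.hF hg hj.1 (by rw [he]; exact inv_mem hY) (by rw [he]; exact hgm),
              co_inv T.hF hg hj.1 (by rw [he]; exact hY), hlow r' hj.1 he hlt',
              co_Y_other T R hg hC hr hj.1 he (fun i e => horb ⟨⟨i % olen T.ρ T.k r,
                (Nat.mod_lt _ (olen_pos R r)).trans_le (olen_le R r)⟩,
                by rw [e]; exact (iterate_mod R i r).symm⟩), neg_zero, zero_add, mul_zero]
          · rw [mvh.others r' hj.1 he (not_lt.1 hlt') (not_exists.1 horb), Int.cast_zero, zero_mul]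
      · refine co_of_higher T.hF hg hv (LV_anti ?_ (comm_mem_LV
          (xG_mem_LV T.hF hg hC hj.1 (Nat.succ_le_of_lt hgt) _) hYs))
        omega
    · obtain ⟨j, hj, rfl⟩ := List.mem_map.1 hx
      rw [List.mem_range'_1] at hj
      show xG T.hF j (c j) ∈ LV mu m
      by_cases h : lv D mu j < m
      · rw [hc0 ⟨j, by omega⟩ hj.1 h, xG_zero]; exact one_mem _
      · exact xG_mem_LV T.hF hg hC (r := ⟨j, by omega⟩) hj.1 (not_lt.1 h) _
  show f g = _
  rw [hsplit, hzero, add_zero, hf]
  show co T.hF v (Y T r t * Y T s 1 * (Y T r t)⁻¹ * (Y T s 1)⁻¹) = _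
  rw [show Y T r t = ((List.range (olen T.ρ T.k r)).map fun i => xG T.hF (T.ρ^[i] r : Fin D.nroots)
      ((eps T.ρ T.ε i r : F) * (T.φ ^ i) t)).prod from rfl, bracket_list_left T.hF hg hv hm0 hlv hYs _ (fun x hx => ?_), List.map_map, olen, if_neg hns]
  · refine congrArg List.sum (List.map_congr_left fun i _ => ?_)
    refine (hfx1 _ ((pos_iterate T r i).2 hr) (lv_iterate R i r) _).trans ?_
    push_cast
    ring
  · obtain ⟨i, -, rfl⟩ := List.mem_map.1 hx
    exact xG_mem_LV T.hF hg hC ((pos_iterate T r i).2 hr) (lv_iterate R i r).ge _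

variable {S : Fin D.nroots} {mv : Fin D.nroots → Fin D.nroots × Fin D.nroots}
  (P : StepFacts D C mu T.ρ T.ε T.k S mv)
include P

/-- Above the last short root fixed elements are rational. -/
theorem above_fixed {m : ℕ} {g : GL D.Idx F} (hU : g ∈ T.U1) (hgm : g ∈ LV mu m)
    (hm : lv D mu S ≤ m) (hS : m = lv D mu S → co T.hF S g = 0) : gmap D T.φ g = g := by
  obtain ⟨t, ht, ht0, ht1⟩ := exists_coords T.hF hg hC hU.1 hgm
  have hfix : ∀ r : Fin D.nroots, half D ≤ (r : ℕ) → t r ≠ 0 → T.ρ r = r := by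
    intro r hr hne
    have hrm : m ≤ lv D mu r := not_lt.1 fun h => hne (ht0 r hr h)
    rcases P.above r hr (hm.trans hrm) with h | ⟨i, hi⟩
    · exact h
    · exfalso
      refine hne ?_
      have e : lv D mu r = lv D mu S := by rw [← hi]; exact lv_iterate R _ S
      have hmS : m = lv D mu S := le_antisymm (e ▸ hrm) hm
      rw [← ht1 r hr (by rw [e, hmS]), ← hi, co_fx_iterate T R hg hC hU.1 hgm hU.2 P.pos_S hmS.symm,
        hS hmS, map_zero, mul_zero]
  have hσ : T.σ g = gmap D T.φ g := by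
    rw [ht, prodFrom, wordG, List.map_map, map_list_prod, map_list_prod, List.map_map, List.map_map]
    refine congrArg List.prod (List.map_congr_left fun j hj => ?_)
    rw [List.mem_range'_1] at hj
    simp only [Function.comp_apply]
    by_cases h0 : t j = 0
    · rw [h0, xG_zero, map_one, map_one]
    obtain ⟨r, rfl⟩ : ∃ r : Fin D.nroots, (r : ℕ) = j := ⟨⟨j, by omega⟩, rfl⟩
    have hr := hfix r hj.1 h0
    have he : T.ε r = 1 := by
      have := R.eps_period r
      rw [olen, if_pos hr] at this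
      simpa [eps] using this
    rw [σ_xG, gmap_xG T.hF T.hF, hr, he, Int.cast_one, one_mul]
  rw [← hσ]
  exact T.mem_fx.1 hU.2

variable {H : Subgroup (GL D.Idx F)} (hH : Hyp T H)
include hH

/-- The unipotent part of an overgroup is rational, or contains a full fixed product at `S`. -/
theorem dichotomy : (∀ g ∈ H, g ∈ T.U1 → gmap D T.φ g = g) ∨
    ∃ t, T.φ t ≠ t ∧ Y T S t ∈ H := by
  by_contra hcon
  simp only [not_or, not_exists, not_and] at hcon
  obtain ⟨hc1, hc2⟩ := hcon
  refine hc1 ?_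
  suffices key : ∀ d m, 2 * B + 1 - m = d → 1 ≤ m → ∀ g ∈ H, g ∈ T.U1 → g ∈ LV mu m →
      gmap D T.φ g = g from
    fun g hg' hU => key _ 1 rfl le_rfl g hg' hU (posUnipotent_le_LV T.hF hg hC hU.1)
  intro d
  induction d using Nat.strong_induction_on with
  | _ d ih =>
    intro m hd hm1 g hgH hU hgm
    by_cases hbig : 2 * B < m
    · rw [LV_eq_one hg hbig hgm, map_one]
    suffices inner : ∀ j, j ≤ D.nroots → ∀ g ∈ H, g ∈ T.U1 → g ∈ LV mu m →
        (∀ r : Fin D.nroots, half D ≤ (r : ℕ) → lv D mu r = m → (r : ℕ) < j → co T.hF r g = 0) →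
        gmap D T.φ g = g from
      inner 0 (Nat.zero_le _) g hgH hU hgm fun r _ _ h => absurd h (Nat.not_lt_zero _)
    intro j
    induction hj : D.nroots - j generalizing j with
    | zero =>
      intro hjn g hgH hU hgm h0
      refine ih _ (by omega) (m + 1) rfl (by omega) g hgH hU
        (mem_LV_succ T.hF hg hC hU.1 hgm fun r hr he => h0 r hr he (by have := r.2; omega))
    | succ c ihj =>
      intro hjn g hgH hU hgm h0
      obtain ⟨r, hrj⟩ : ∃ r : Fin D.nroots, (r : ℕ) = j := ⟨⟨j, by omega⟩, rfl⟩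
      subst hrj
      have hnext : ∀ g ∈ H, g ∈ T.U1 → g ∈ LV mu m →
          (∀ r' : Fin D.nroots, half D ≤ (r' : ℕ) → lv D mu r' = m → r' ≤ r →
            co T.hF r' g = 0) → gmap D T.φ g = g := fun g h1 h2 h3 h4 =>
        ihj ((r : ℕ) + 1) (by omega) (by omega) g h1 h2 h3 fun r' a b e => h4 r' a b (by
          show (r' : ℕ) ≤ r; omega)
      by_cases hcase : half D ≤ (r : ℕ) ∧ lv D mu r = m ∧ co T.hF r g ≠ 0
      swap
      · refine hnext g hgH hU hgm fun r' a b e => ?_
        rcases lt_or_eq_of_le e with h | h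
        · exact h0 r' a b h
        · subst h; by_contra hne; exact hcase ⟨a, b, hne⟩
      obtain ⟨hr, hrm, hne⟩ := hcase
      set t := co T.hF r g with ht
      have hpar := opar_co T R hg hC hU.1 hgm hU.2 hr hrm
      have hYU := Y_mem_U1 T R hr hpar
      have hYm := Y_mem_LV T R hg hC hr t
      rw [hrm] at hYm
      -- the orbit of `r` starts at `r`
      have hmin : ∀ i, r ≤ T.ρ^[i] r := fun i => by
        by_contra hlt
        have := co_fx_iterate T R hg hC hU.1 hgm hU.2 hr hrm i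
        rw [h0 _ ((pos_iterate T r i).2 hr) (by rw [lv_iterate R i r, hrm])
          (Fin.lt_def.1 (not_le.1 hlt))] at this
        rcases mul_eq_zero.1 this.symm with h | h
        · have hu : ∀ (i : ℕ) (s : Fin D.nroots), (eps T.ρ T.ε i s : F) ≠ 0 := by
            intro i
            induction i with
            | zero => intro s; simp [eps]
            | succ i ihi =>
              intro s
              rw [eps, Int.cast_mul]
              refine mul_ne_zero ?_ (ihi _)
              rcases T.hG.sign s with e | e <;> simp [e]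
          exact hu i r h
        · exact hne ((map_eq_zero _).1 h)
      set g' := (Y T r t)⁻¹ * g with hg'
      have hg'U : g' ∈ T.U1 := mul_mem (inv_mem hYU) hU
      have hg'm : g' ∈ LV mu m := mul_mem (inv_mem hYm) hgm
      have hco : co T.hF r g' = 0 := by
        rw [hg', co_mul T.hF hg hr (by rw [hrm]; exact inv_mem hYm) (by rw [hrm]; exact hgm),
          co_inv T.hF hg hr (by rw [hrm]; exact hYm), co_Y_self T R hg hC hr, ← ht, neg_add_cancel]
      have hYH : gmap D T.φ (Y T r t) = Y T r t → gmap D T.φ g' = g' → gmap D T.φ g = g := by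
        intro e1 e2
        rw [show g = Y T r t * g' by rw [hg', mul_inv_cancel_left], map_mul, e1, e2]
      by_cases hrat : T.φ t = t
      · refine hYH (by rw [gmap_Y, hrat]) (hnext g'
          (H.mul_mem (H.inv_mem (Y_mem_rat T hg hC R hH hr hrat)) hgH) hg'U hg'm
          fun r' a b e => ?_)
        rcases lt_or_eq_of_le e with h | h
        · rw [hg', co_mul T.hF hg a (by rw [b]; exact inv_mem hYm) (by rw [b]; exact hgm),
            co_inv T.hF hg a (by rw [b]; exact hYm), h0 r' a b h,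
            co_Y_other T R hg hC hr a (b.trans hrm.symm)
              (fun i e' => not_le.2 h (e' ▸ hmin i)), neg_zero, add_zero]
        · exact h ▸ hco
      have hns : T.ρ r ≠ r := by
        intro hfix
        have h := hpar
        rw [OPar, olen, if_pos hfix, pow_one] at h
        exact hrat h
      by_cases hS : ∃ i : Fin T.k, T.ρ^[(i : ℕ)] S = r
      · obtain ⟨i, hi⟩ := hS
        have hrS : r = S := by
          refine le_antisymm ?_ (hi ▸ P.min_S i)
          have := hmin (olen T.ρ T.k S - i)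
          rwa [← hi, ← Function.iterate_add_apply, Nat.sub_add_cancel (by
            rw [olen, if_neg P.moved_S]; exact i.2.le), R.period S, hi] at this
        subst hrS
        exfalso
        refine hc2 t hrat ?_
        have hfix' := above_fixed T hg hC R P hg'U hg'm hrm.le fun _ => hco
        have := H.mul_mem hgH (H.inv_mem (hH.rat g' (T.U1_le_G1 hg'U) hfix'))
        rwa [hg', mul_inv_rev, inv_inv, mul_inv_cancel_left] at this
      have hM : Move D C mu T.ρ T.ε T.k r (mv r).1 (mv r).2 := by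
        rcases P.move r hr with h | h | ⟨i, hi⟩ | h
        · exact absurd h hns
        · exact absurd h hS
        · exact absurd (hmin i) (not_le.2 hi)
        · exact h
      set s := (mv r).1
      set v := (mv r).2
      set w := g * Y T s 1 * g⁻¹ * (Y T s 1)⁻¹ with hw
      have hYs := Y_mem_rat T hg hC R hH hM.pos_s (map_one T.φ)
      have hYsU := Y_mem_U1 T R hM.pos_s (opar_rat T (map_one T.φ))
      have hwH : w ∈ H := H.mul_mem (H.mul_mem (H.mul_mem hgH hYs) (H.inv_mem hgH)) (H.inv_mem hYs)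
      have hwU : w ∈ T.U1 := mul_mem (mul_mem (mul_mem hU hYsU) (inv_mem hU)) (inv_mem hYsU)
      have hwm := comm_mem_LV hgm (Y_mem_LV T R hg hC hM.pos_s (1 : F))
      have hspos := lv_pos T.hF hg hM.pos_s
      have hwfix := ih _ (by omega) (m + lv D mu s) rfl (by omega) w hwH hwU hwm
      obtain ⟨e, he, j, hgood⟩ := hM.good
      refine absurd (rat_of_good T (n := fun i => eps T.ρ T.ε i r * wt D C T.ρ T.ε T.k s v (T.ρ^[i] r)) (t := t) he hgood ?_) hrat
      have hcm := co_move T hg hC R P.linear hr hns hM hU.1 (by rw [hrm]; exact hgm) hU.2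
        fun r' a b h => h0 r' a (b.trans hrm) h
      rw [← hcm, ← hw, ← co_gmap, hwfix]

/-- The Borel part is rational once the unipotent part is. -/
theorem borel_fixed (hU : ∀ g ∈ H, g ∈ T.U1 → gmap D T.φ g = g) {b : GL D.Idx F}
    (hb : b ∈ T.B1) (hbH : b ∈ H) : gmap D T.φ b = b := by
  obtain ⟨v, hv, h, hh, rfl⟩ := T.mem_B1.1 hb
  obtain ⟨c, hc, hch⟩ := T.mem_T1.1 hh
  subst hch
  have hpos : ∀ r : Fin D.nroots, half D ≤ (r : ℕ) → T.φ (chiU c r : F) = chiU c r := by
    intro r hr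
    have hY1 := Y_mem_U1 T R hr (opar_rat T (map_one T.φ))
    have e : torusHom c * Y T r 1 * (torusHom c)⁻¹ = Y T r ((chiU c r : F) * 1) :=
      conj_Y T R (T.T1_le_fx hh) rfl (fun t => by
        rw [torusHom_conj T.hF c r.2, mul_inv_cancel_right]) 1
    rw [mul_one] at e
    have hmem : v * Y T r (chiU c r : F) * v⁻¹ ∈ H := by
      have := H.mul_mem (H.mul_mem hbH (Y_mem_rat T hg hC R hH hr (map_one T.φ))) (H.inv_mem hbH)
      rwa [show v * torusHom c * Y T r 1 * (v * torusHom c)⁻¹ =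
        v * (torusHom c * Y T r 1 * (torusHom c)⁻¹) * v⁻¹ by group, e] at this
    have hconj : v * Y T r (chiU c r : F) * v⁻¹ ∈ T.U1 := by
      rw [← e, show v * (torusHom c * Y T r 1 * (torusHom c)⁻¹) * v⁻¹ =
        v * (torusHom c * Y T r 1 * (torusHom c)⁻¹) * v⁻¹ from rfl]
      refine mul_mem (mul_mem hv ?_) (inv_mem hv)
      exact (Subgroup.mem_normalizer_iff.1 (T.T1_le_normalizer hh) _).1 hY1
    obtain ⟨-, hco⟩ := co_conj T.hF hg hr (posUnipotent_le_LV T.hF hg hC hv.1)
      (Y_mem_LV T R hg hC hr (chiU c r : F))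
    rw [co_Y_self T R hg hC hr] at hco
    rw [← hco, ← co_gmap, hU _ hmem hconj]
  have hchi : ∀ r : Fin D.nroots, T.φ (chiU c r : F) = chiU c r := by
    intro r
    by_cases hp : half D ≤ (r : ℕ)
    · exact hpos r hp
    · have h1 := hpos (negF T.hF r) ((pos_negF_iff T.hF r).2 (not_le.1 hp))
      rw [show chiU c (negF T.hF r : ℕ) = (chiU c (r : ℕ))⁻¹ by
        rw [chiU, chiU, ← Finset.prod_inv_distrib]
        exact Finset.prod_congr rfl fun j _ => by
          rw [show ((negF T.hF r : Fin D.nroots) : ℕ) = D.neg r from rfl,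
            T.hF.cartan_neg r r.2 j j.2, zpow_neg],
        Units.val_inv_eq_inv_val, map_inv₀] at h1
      exact inv_injective h1
  have ht : gmap D T.φ (torusHom c) = torusHom c := by
    apply Units.ext
    ext a a'
    rw [gmap_apply]
    by_cases e : a = a'
    · subst e
      rcases a with j | s
      · simp [torusHom, diagG]
      · simpa [torusHom, diagG] using hchi s
    · simp [torusHom, diagG, Matrix.diagonal_apply_ne _ e]
  have hvH : v ∈ H := by
    have := H.mul_mem hbH (H.inv_mem (hH.rat _ (T.T1_le_G1 hh) ht))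
    rwa [mul_inv_cancel_right] at this
  rw [map_mul, hU v hvH hv, ht]

end Cfsg.Agent.Overgroup.Twisted
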