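import Cfsg.Agent.Chev.RadicalCentralizer
import Cfsg.Agent.Chev.TopCentralizer
import Cfsg.Agent.Chev.MinCoset
import Cfsg.Agent.Overgroup.Twisted.Upper

/-!
Rational descent in a twisted group, and the centralisers of the top root elements in an overgroup.
-/

set_option autoImplicit false
set_option linter.unusedSectionVars false

namespace Cfsg.Agent.Overgroup.Twisted

open Cfsg.Lie Cfsg.Agent.Chev
open scoped MatrixGroups

universe u

variable {D : ChevalleyDatum}

/-- The nodes orthogonal to the last root. -/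
def topJ (D : ChevalleyDatum) : Set ℕ :=
  {j | j < D.rank ∧ D.cartan j (D.nroots - 1) = 0}

/-- The facts about the last root and the fixed roots of the radical. -/
structure TopFacts (D : ChevalleyDatum) (C : Cert) (mu : List (List ℤ))
    (π : Equiv.Perm (Fin D.rank)) (ρ : Equiv.Perm (Fin D.nroots)) {m : ℕ} (base : Fin m → Fin D.rank)
    (len : Fin m → ℕ) (sp : Fin m → List (ℤ × Fin D.nroots)) (b : Fin D.rank) : Prop where
  ρ_top : ∀ r : Fin D.nroots, (r : ℕ) = D.nroots - 1 → ρ r = r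
  dom : ∀ j : Fin D.rank, 0 ≤ D.cartan j (D.nroots - 1)
  b_fixed : π b = b
  b_one : D.cartan b (D.nroots - 1) = 1
  top_pos : ∀ r : Fin D.nroots, (r : ℕ) = D.nroots - 1 → 0 < pairing D r (D.nroots - 1)
  radical : ∀ r s : Fin D.nroots, half D ≤ (r : ℕ) → half D ≤ (s : ℕ) →
    0 < pairing D s (D.nroots - 1) → ∀ a ∈ C.cTerms D r s,
      0 < pairing D a.1 (D.nroots - 1) ∧ lv D mu s < lv D mu a.1
  span : ∀ a : Fin m, (∀ c ∈ sp a, half D ≤ (c.2 : ℕ) ∧ ρ c.2 = c.2 ∧
      0 < pairing D c.2 (D.nroots - 1)) ∧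
    ∀ j : Fin D.rank, ((sp a).map fun c => c.1 * coef D c.2 j).sum =
      ((List.range (len a)).map fun l => coef D (D.simple (orbNode π base a l)) j).sum

variable {F : Type u} [Field F] (T : Twist D F)

/-- A conjugate in the twisted group of the last root element. -/
def TopConj (z : GL D.Idx F) : Prop :=
  ∃ g ∈ T.G1, z = g * xG T.hF (D.nroots - 1) 1 * g⁻¹

theorem mem_topJ_node {C : Cert} {mu : List (List ℤ)} {sp : Fin T.m → List (ℤ × Fin D.nroots)}
    {b : Fin D.rank} (Q : TopFacts D C mu T.π T.ρ T.base T.len sp b) (a : Fin T.m) :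
    ∀ j, (T.node a j : ℕ) ∈ topJ D ↔ (T.base a : ℕ) ∈ topJ D := by
  intro j
  induction j with
  | zero => exact Iff.rfl
  | succ j ih =>
    rw [← ih, T.node_succ]
    have h := T.hG.cartan (T.node a j) (topRoot T.hF)
    rw [Q.ρ_top (topRoot T.hF) rfl] at h
    simp only [topJ, Set.mem_ofPred_eq]
    rw [show D.cartan (T.π (T.node a j)) (D.nroots - 1) = D.cartan (T.node a j) (D.nroots - 1) from h]
    exact and_congr_left fun _ => iff_of_true (T.π (T.node a j)).2 (T.node a j).2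

theorem nS_mem_parabolic {J : Set ℕ} {i : Fin D.rank} (h : (i : ℕ) ∈ J) :
    (nS T.hF (i : ℕ) : GL D.Idx F) ∈ D.parabolicSubgroup F J :=
  Subgroup.mem_sup_right (Subgroup.subset_closure ⟨i, h, i.2, nG_val T.hF _ 1⟩)

theorem nWord_mem_parabolic {J : Set ℕ} {w : List (Fin D.rank)} (h : ∀ i ∈ w, (i : ℕ) ∈ J) :
    (nWord T.hF w : GL D.Idx F) ∈ D.parabolicSubgroup F J :=
  Subgroup.list_prod_mem _ fun y hy => by
    obtain ⟨i, hi, rfl⟩ := List.mem_map.1 hy
    exact nS_mem_parabolic T (h i hi)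

theorem gmap_parabolic {J : Set ℕ} {p : GL D.Idx F} (hp : p ∈ D.parabolicSubgroup F J) :
    gmap D T.φ p ∈ D.parabolicSubgroup F J := by
  refine (sup_le (fun b hb => ?_) ((Subgroup.closure_le _).2 ?_) :
    D.parabolicSubgroup F J ≤ (D.parabolicSubgroup F J).comap (gmap D T.φ)) hp
  · exact borel_le_parabolic J (gmap_borel T.hF T.φ hb)
  · rintro y ⟨j, hj, hjr, ey⟩
    obtain rfl : y = nG T.hF (D.simple j) 1 := Units.ext (ey.trans (nG_val T.hF _ 1).symm)
    show gmap D T.φ (nG T.hF (D.simple j) 1) ∈ D.parabolicSubgroup F J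
    rw [gmap_nG T.hF T.hF, map_one]
    exact Subgroup.mem_sup_right (Subgroup.subset_closure ⟨j, hj, hjr, nG_val T.hF _ 1⟩)

/-- An element of the twisted group, factored over a parabolic subgroup. -/
theorem exists_min_form {J : Set ℕ}
    (hJ : ∀ a : Fin T.m, ∀ j, (T.node a j : ℕ) ∈ J ↔ (T.base a : ℕ) ∈ J) {g : GL D.Idx F}
    (hg : g ∈ T.G1) :
    ∃ p ∈ T.G1, p ∈ D.parabolicSubgroup F J ∧ ∃ ws, IsMin T.hF (idxSet D J) (T.pW ws)⁻¹ ∧
      ∃ x ∈ T.fm (T.pW ws), g = p * T.nW ws * x := by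
  suffices H : ∀ N ws, invCard (T.pW ws)⁻¹ = N → ∀ p ∈ T.G1, p ∈ D.parabolicSubgroup F J →
      ∀ x ∈ T.U1, ∃ p' ∈ T.G1, p' ∈ D.parabolicSubgroup F J ∧ ∃ ws',
        IsMin T.hF (idxSet D J) (T.pW ws')⁻¹ ∧ ∃ x' ∈ T.fm (T.pW ws'),
          p * T.nW ws * x = p' * T.nW ws' * x' by
    obtain ⟨b, hb, ws, x, hx, rfl⟩ := T.exists_nf hg
    exact H _ ws rfl b (T.B1_le_G1 hb) (borel_le_parabolic J (T.B1_le_borel hb)) x
      ⟨closure_uGens_le T.hF _ hx.1, hx.2⟩
  intro N
  induction N using Nat.strong_induction_on with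
  | _ N ih =>
    intro ws hN p hpG hpJ x hx
    obtain ⟨u, hu, v, hv, huf, hvf, rfl⟩ :=
      T.split_fx (T.isMon_nW ws) (T.inW1_pW ws).2 hx.1 hx.2
    have hnf := T.G1_le_fx (T.N1_le_G1 (T.nW_mem_N1 ws))
    set u' := T.nW ws * u * (T.nW ws)⁻¹ with hu'
    have hu'U : u' ∈ T.U1 := ⟨conj_uPlus T.hF (T.isMon_nW ws) hu,
      Subgroup.mul_mem _ (Subgroup.mul_mem _ hnf huf) (Subgroup.inv_mem _ hnf)⟩
    have hpu : p * u' ∈ D.parabolicSubgroup F J :=
      mul_mem hpJ (borel_le_parabolic J (Subgroup.mem_sup_left hu'U.1))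
    have hpuG : p * u' ∈ T.G1 := mul_mem hpG (T.U1_le_G1 hu'U)
    have e : p * T.nW ws * (u * v) = p * u' * T.nW ws * v := by rw [hu']; group
    rw [e]
    by_cases hmin : ∀ a, (T.base a : ℕ) ∈ J →
        half D ≤ ((T.pW ws)⁻¹ (sRoot T.hF (T.base a)) : ℕ)
    · refine ⟨_, hpuG, hpu, ws, ⟨Subgroup.inv_mem _ (T.inW1_pW ws).1, fun i hi => ?_⟩, v, ⟨hv, hvf⟩,
        rfl⟩
      obtain ⟨a, j, -, rfl⟩ := T.cover i
      exact (T.node_sign ((T.inW1_pW ws).inv T) a j).2 (hmin a ((hJ a j).1 (mem_idxSet.1 hi)))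
    push Not at hmin
    obtain ⟨a, haJ, ha⟩ := hmin
    set q := (T.pW (a :: ws))⁻¹ with hq
    have hqW : T.InW1 q := (T.inW1_pW _).inv T
    have hqa : half D ≤ (q (sRoot T.hF (T.base a)) : ℕ) := by
      rw [hq, T.pW_cons, mul_inv_rev, Equiv.Perm.mul_apply, T.wA_inv, ← T.node_zero, T.wA_node,
        T.node_zero, weyl_negF T.hF ((T.inW1_pW ws).inv T).1]
      exact (pos_negF_iff T.hF _).2 ha
    have hc := T.invSet_mul_wA hqW hqa
    rw [hq, T.pW_cons, mul_inv_rev, T.wA_inv, mul_assoc, T.wA_sq, mul_one, hN] at hc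
    have hlt : invCard (T.pW (a :: ws))⁻¹ < N := by
      rw [T.pW_cons, mul_inv_rev, T.wA_inv]
      have := T.hO.len_pos a
      omega
    have hn : T.nW ws = (T.nA a)⁻¹ * T.nW (a :: ws) := by rw [T.nW_cons, inv_mul_cancel_left]
    rw [hn, ← mul_assoc (p * u')]
    refine ih _ hlt (a :: ws) rfl _ (mul_mem hpuG (inv_mem (T.nA_mem_G1 a)))
      (mul_mem hpu (inv_mem (nWord_mem_parabolic T fun i hi => ?_))) v
      ⟨closure_uGens_le T.hF _ hv, hvf⟩
    obtain ⟨j, -, rfl⟩ := T.mem_orb.1 hi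
    exact (hJ a j).2 haJ

/-- Rational descent to the cosets of a parabolic subgroup. -/
theorem descent {J : Set ℕ}
    (hJ : ∀ a : Fin T.m, ∀ j, (T.node a j : ℕ) ∈ J ↔ (T.base a : ℕ) ∈ J) {g : GL D.Idx F}
    (hg : g ∈ T.G1) (h : g⁻¹ * gmap D T.φ g ∈ D.parabolicSubgroup F J) :
    ∃ f ∈ T.G1, gmap D T.φ f = f ∧ f⁻¹ * g ∈ D.parabolicSubgroup F J := by
  obtain ⟨p, hpG, hpJ, ws, hmin, x, hx, e⟩ := exists_min_form T hJ (inv_mem hg)
  set n := T.nW ws with hn
  have hnφ : gmap D T.φ n = n := gmap_nWord T.hF T.hF T.φ _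
  refine ⟨(n * x)⁻¹, inv_mem (mul_mem (T.N1_le_G1 (T.nW_mem_N1 ws)) (T.fm_le_G1 (T.inW1_pW ws) hx)),
    ?_, ?_⟩
  swap
  · rw [inv_inv, show g = (p * n * x)⁻¹ by rw [← e, inv_inv],
      show n * x * (p * n * x)⁻¹ = p⁻¹ by group]
    exact inv_mem hpJ
  suffices hxφ : gmap D T.φ x = x by rw [map_inv, map_mul, hnφ, hxφ]
  set π := T.pW ws with hπ
  have hkey : n * (x * (gmap D T.φ x)⁻¹) * n⁻¹ ∈ D.parabolicSubgroup F J := by
    have e1 : gmap D T.φ p * n * gmap D T.φ x = (g⁻¹ * gmap D T.φ g)⁻¹ * (p * n * x) := by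
      rw [← hnφ, ← map_mul, ← map_mul, hnφ, ← e, map_inv]
      group
    have e2 : n * (x * (gmap D T.φ x)⁻¹) * n⁻¹ =
        p⁻¹ * (g⁻¹ * gmap D T.φ g) * gmap D T.φ p := by
      calc n * (x * (gmap D T.φ x)⁻¹) * n⁻¹
          = p⁻¹ * (p * n * x) * (gmap D T.φ p * n * gmap D T.φ x)⁻¹ * gmap D T.φ p := by group
        _ = _ := by rw [e1]; group
    rw [e2]
    exact mul_mem (mul_mem (inv_mem hpJ) h) (gmap_parabolic T hpJ)
  set z := x * (gmap D T.φ x)⁻¹ with hz
  have hzm : z ∈ uMinus T.hF π := mul_mem hx.1 (inv_mem (gmap_uMinus T.hF T.φ _ hx.1))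
  suffices hz1 : z = 1 by exact (mul_inv_eq_one.1 hz1).symm
  obtain ⟨b, hb, w, y, hy, eq⟩ := exists_normalForm T.hF
    (mul_mem (mul_mem (T.G1_le_group (T.N1_le_G1 (T.nW_mem_N1 ws))) (borel_le_group T.hF
      (Subgroup.mem_sup_left (closure_uGens_le T.hF _ hzm))))
      (inv_mem (T.G1_le_group (T.N1_le_G1 (T.nW_mem_N1 ws)))) : n * z * n⁻¹ ∈ D.group F)
  have hyU := closure_uGens_le T.hF _ hy
  have hwJ : pWord T.hF w ∈ wJ T.hF (idxSet D J) := by
    refine pWord_mem_of_nWord_mem T.hF J (F := F) ?_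
    rw [show (nWord T.hF w : GL D.Idx F) = b⁻¹ * (n * z * n⁻¹) * y⁻¹ by rw [eq]; group]
    exact mul_mem (mul_mem (inv_mem (borel_le_parabolic J hb)) hkey)
      (inv_mem (borel_le_parabolic J (Subgroup.mem_sup_left hyU)))
  have hni := isMon_inv' T.hF (T.isMon_nW ws)
  have hy' : n⁻¹ * y * n ∈ D.posUnipotent F := by
    have := conj_uGens_le T.hF hni (M := D.posUnipotent F) (fun r h1 h2 v =>
      mem_posUnipotent_of T.hF (π⁻¹ r).2 (pos_of_isMin T.hF hmin
        (fun j hj => coef_eq_zero_of_inverted T.hF hwJ h1 h2 hj) h1) v) hy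
    rwa [inv_inv] at this
  set M := nWord T.hF w * n with hM
  have hMon := isMon_mul T.hF (isMon_nWord T.hF w (F := F)) (T.isMon_nW ws)
  rw [← hM, ← hπ] at hMon
  obtain ⟨a, ha, c, hc, hac⟩ := posUnipotent_split T.hF (pWord T.hF w * π) hy'
  have hMN : M ∈ D.monomialSubgroup F := mul_mem (nWord_mem T.hF w) (nWord_mem T.hF _)
  have hd := (normalForm_unique T.hF (b := 1) (b' := b * (M * a * M⁻¹)) (n := n) (n' := M) (x := z)
    (x' := c) (one_mem _) (mul_mem hb (Subgroup.mem_sup_left (conj_uPlus T.hF hMon ha)))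
    (nWord_mem T.hF _) hMN (by rw [monPerm_eq T.hF (T.isMon_nW ws)]; exact hzm)
    (by rw [monPerm_eq T.hF hMon]; exact hc) (by
      rw [one_mul, show n * z = n * z * n⁻¹ * n by group, eq,
        show b * nWord T.hF w * y * n = b * M * (n⁻¹ * y * n) by rw [hM]; group, hac]
      group)).1
  obtain ⟨t, ht⟩ := (mem_diagonal_iff T.hF).1 hd
  have hperm : pWord T.hF w * π = π := by
    have h1 := isMon_mul T.hF (T.isMon_nW ws) (isMon_torus T.hF t (F := F))
    rw [mul_one, ht, mul_inv_cancel_left] at h1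
    exact isMon_unique T.hF hMon h1
  have hw1 : pWord T.hF w = 1 := mul_eq_right.1 hperm
  have hB : n * z * n⁻¹ ∈ D.borelSubgroup F := by
    rw [eq]
    exact mul_mem (mul_mem hb (Subgroup.mem_sup_right (mem_diagonal_of_isMon_one T.hF
      (nWord_mem T.hF w) (hw1 ▸ isMon_nWord T.hF w)))) (Subgroup.mem_sup_left hyU)
  exact conj_eq_one_iff.1
    (borel_inf_upper T.hF hB (negUnipotent_le_upperGroup T.hF (conj_uMinus T.hF (T.isMon_nW ws) hzm)))

variable {C : Cert} {mu : List (List ℤ)} {sp : Fin T.m → List (ℤ × Fin D.nroots)}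
  {b : Fin D.rank} (Q : TopFacts D C mu T.π T.ρ T.base T.len sp b)
include Q

/-- The Weyl part of an element centralising a top root element fixes the last root. -/
theorem top_fixed {bb x : GL D.Idx F} {ws : List (Fin T.m)} (hb : bb ∈ T.B1)
    (hx : x ∈ D.posUnipotent F) {a : F} (ha : a ≠ 0)
    (hc : bb * T.nW ws * x * xG T.hF (D.nroots - 1) a * (bb * T.nW ws * x)⁻¹ =
      xG T.hF (D.nroots - 1) a) : T.pW ws (topRoot T.hF) = topRoot T.hF := by
  obtain ⟨v, hv, t, ht, e⟩ := T.mem_B1.1 hb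
  obtain ⟨c, -, rfl⟩ := T.mem_T1.1 ht
  subst e
  obtain ⟨d, hd, hd'⟩ := T.isMon_nW ws (topRoot T.hF)
  have h1 : x * xG T.hF (D.nroots - 1) a * x⁻¹ = xG T.hF (D.nroots - 1) a := by
    rw [(top_commute_posUnipotent T.hF hx a).eq, mul_inv_cancel_right]
  have h2 : T.nW ws * xG T.hF (D.nroots - 1) a * (T.nW ws)⁻¹ =
      xG T.hF (T.pW ws (topRoot T.hF) : ℕ) (d * a) := by
    rw [mul_inv_eq_iff_eq_mul]
    exact hd' a
  set r := T.pW ws (topRoot T.hF) with hr
  have h3 : torusHom c * xG T.hF (r : ℕ) (d * a) * (torusHom c)⁻¹ =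
      xG T.hF (r : ℕ) ((chiU c (r : ℕ) : F) * (d * a)) := by
    rw [torusHom_conj T.hF c r.2, mul_inv_cancel_right]
  have h4 : v * xG T.hF (r : ℕ) ((chiU c (r : ℕ) : F) * (d * a)) * v⁻¹ =
      xG T.hF (D.nroots - 1) a := by
    rw [← h3, ← h2, show v * (torusHom c * (T.nW ws * xG T.hF (D.nroots - 1) a * (T.nW ws)⁻¹) *
      (torusHom c)⁻¹) * v⁻¹ = v * torusHom c * T.nW ws * xG T.hF (D.nroots - 1) a *
        (v * torusHom c * T.nW ws)⁻¹ by group]
    conv_lhs => rw [← h1]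
    rw [show v * torusHom c * T.nW ws * (x * xG T.hF (D.nroots - 1) a * x⁻¹) *
      (v * torusHom c * T.nW ws)⁻¹ = v * torusHom c * T.nW ws * x * xG T.hF (D.nroots - 1) a *
        (v * torusHom c * T.nW ws * x)⁻¹ by group]
    exact hc
  have h5 : xG T.hF (r : ℕ) ((chiU c (r : ℕ) : F) * (d * a)) = xG T.hF (D.nroots - 1) a := by
    calc xG T.hF (r : ℕ) ((chiU c (r : ℕ) : F) * (d * a))
        = v⁻¹ * (v * xG T.hF (r : ℕ) ((chiU c (r : ℕ) : F) * (d * a)) * v⁻¹) * v := by group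
      _ = _ := by rw [h4, mul_assoc, ← (top_commute_posUnipotent T.hF hv.1 a).eq, inv_mul_cancel_left]
  exact Fin.ext (eq_of_x_eq T.hF r.2
    (mul_ne_zero (Units.ne_zero _) (mul_ne_zero hd ha)) (congrArg Units.val h5)).1

theorem centralizer_top_le {g : GL D.Idx F} (hg : g ∈ T.G1) {a : F} (ha : a ≠ 0)
    (hc : g * xG T.hF (D.nroots - 1) a * g⁻¹ = xG T.hF (D.nroots - 1) a) :
    g ∈ D.parabolicSubgroup F (topJ D) := by
  obtain ⟨bb, hb, ws, x, hx, rfl⟩ := T.exists_nf hg
  have hxU := closure_uGens_le T.hF _ hx.1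
  have hfix := top_fixed T Q hb hxU ha hc
  obtain ⟨w, hw, e⟩ := stab_dominant T.hF (r := topRoot T.hF) Q.dom _ (T.flat ws) rfl hfix
  refine mul_mem (mul_mem (borel_le_parabolic _ (T.B1_le_borel hb)) ?_)
    (borel_le_parabolic _ (Subgroup.mem_sup_left hxU))
  have hd : (nWord T.hF w)⁻¹ * T.nW ws ∈ D.diagonalSubgroup F := by
    refine mem_diagonal_of_isMon_one T.hF (mul_mem (inv_mem (nWord_mem T.hF w)) (nWord_mem T.hF _)) ?_
    have h := isMon_mul T.hF (isMon_inv' T.hF (isMon_nWord T.hF w (F := F))) (T.isMon_nW ws)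
    rwa [show T.pW ws = pWord T.hF w from e, inv_mul_cancel] at h
  rw [show T.nW ws = nWord T.hF w * ((nWord T.hF w)⁻¹ * T.nW ws) by group]
  exact mul_mem (nWord_mem_parabolic T fun i hi => ⟨i.2, hw i hi⟩)
    (borel_le_parabolic _ (Subgroup.mem_sup_right hd))

theorem PJ_top {p : GL D.Idx F} (hp : p ∈ D.parabolicSubgroup F (topJ D)) (t : F) :
    ∃ t', p * xG T.hF (D.nroots - 1) t * p⁻¹ = xG T.hF (D.nroots - 1) t' := by
  set X := D.rootSubgroup F (D.nroots - 1)
  have hle : D.parabolicSubgroup F (topJ D) ≤ Subgroup.normalizer (X : Set (GL D.Idx F)) := by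
    have key : ∀ g : GL D.Idx F, X.map (MulAut.conj g).toMonoidHom = X →
        g ∈ Subgroup.normalizer (X : Set (GL D.Idx F)) := by
      intro g hg
      rw [Subgroup.mem_normalizer_iff]
      refine fun y => ⟨fun hy => hg ▸ ⟨y, hy, rfl⟩, fun hy => ?_⟩
      rw [← hg] at hy
      obtain ⟨z, hz, e⟩ := hy
      rwa [← (MulAut.conj g).injective e]
    refine sup_le (fun g hg => key g (map_top_borel T.hF hg)) ((Subgroup.closure_le _).2 ?_)
    rintro y ⟨j, hj, hjr, ey⟩
    obtain rfl : y = nG T.hF (D.simple j) 1 := Units.ext (ey.trans (nG_val T.hF _ 1).symm)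
    refine key _ ?_
    obtain ⟨i, rfl⟩ : ∃ i : Fin D.rank, (i : ℕ) = j := ⟨⟨j, hjr⟩, rfl⟩
    have hi : D.cartan i (D.nroots - 1) = 0 := hj.2
    have hfix : wPerm T.hF i (topRoot T.hF) = topRoot T.hF := by
      apply Fin.ext
      have h2 := T.hF.cartan_self i i.2
      have h3 := T.hF.cartan_neg (D.simple i) (T.hF.simple_lt i i.2) i i.2
      have hne : D.nroots - 1 ≠ D.simple i := fun e => by rw [← e, hi] at h2; omega
      have hne' : D.nroots - 1 ≠ D.neg (D.simple i) := fun e => by rw [← e, hi, h2] at h3; omega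
      show (wPerm T.hF i (topRoot T.hF) : ℕ) = D.nroots - 1
      rw [wPerm_val, ChevalleyDatum.reflectRoot]
      simp [topRoot, hne, hne', hi]
    have := map_rootSubgroup T.hF (isMon_nS T.hF i (F := F)) (topRoot T.hF)
    rw [hfix] at this
    exact this
  obtain ⟨t', e⟩ := (mem_rootSubgroup T.hF).1
    ((Subgroup.mem_normalizer_iff.1 (hle hp) _).1 ((mem_rootSubgroup T.hF).2 ⟨t, rfl⟩))
  exact ⟨t', e⟩

theorem topRoot_lt_pairing_pos {s : Fin D.nroots} (h : 0 < pairing D s (D.nroots - 1)) :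
    half D ≤ (s : ℕ) := by
  by_contra hneg
  have : pairing D s (D.nroots - 1) ≤ 0 := Finset.sum_nonpos fun j _ =>
    mul_nonpos_of_nonpos_of_nonneg (coef_nonpos T.hF (not_le.1 hneg) j) (Q.dom j)
  omega

/-- The radical layers. -/
def WS (D : ChevalleyDatum) {F : Type u} [Field F] (hF : Facts.{u} D) (mu : List (List ℤ)) (m : ℕ) :
    Subgroup (GL D.Idx F) :=
  Subgroup.closure {g | ∃ (s : Fin D.nroots) (t : F),
    0 < pairing D s (D.nroots - 1) ∧ m ≤ lv D mu s ∧ g = xG hF s t}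

theorem commutator_WS (hC : Checks D C) {v : GL D.Idx F} (hv : v ∈ D.posUnipotent F) {m : ℕ}
    {g : GL D.Idx F} (hg : g ∈ WS D T.hF mu m) :
    v * g * v⁻¹ ∈ WS D T.hF mu m ∧ v * g * v⁻¹ * g⁻¹ ∈ WS D T.hF mu (m + 1) := by
  have hgen : ∀ (k : ℕ) (r s : Fin D.nroots) (t w : F), half D ≤ (r : ℕ) →
      0 < pairing D s (D.nroots - 1) → k ≤ lv D mu s → ∃ W ∈ WS D T.hF mu (k + 1),
        xG T.hF r t * xG T.hF s w * (xG T.hF r t)⁻¹ = xG T.hF s w * W := by
    intro k r s t w hr hs hk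
    have hsp := topRoot_lt_pairing_pos T Q hs
    by_cases e : s = r
    · subst e
      refine ⟨1, one_mem _, ?_⟩
      rw [mul_one, xG_inv, xG_mul, xG_mul]
      congr 1; ring
    have hne : (s : ℕ) ≠ D.neg r := by
      have := (neg_lt_half_iff T.hF r.2).2 hr; omega
    refine ⟨_, ?_, conj_word T.hF r.2 s.2 (fun e' => e (Fin.ext e')) hne t w⟩
    refine wordG_mem T.hF fun q hq => ?_
    obtain ⟨a, ha, rfl⟩ := List.mem_map.1 hq
    have hlt := T.hF.comm_lt r s r.2 s.2 a ha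
    rw [commTerms_eq hC] at ha
    obtain ⟨h1, h2⟩ := Q.radical r s hr hsp hs a ha
    exact Subgroup.subset_closure ⟨⟨a.1, hlt⟩, _, h1, by show k + 1 ≤ lv D mu a.1; omega, rfl⟩
  have hanti : ∀ k, WS D T.hF mu (k + 1) (F := F) ≤ WS D T.hF mu k := fun k =>
    Subgroup.closure_mono fun g ⟨s, t, h1, h2, h3⟩ => ⟨s, t, h1, by omega, h3⟩
  have hnorm : ∀ k, D.posUnipotent F ≤
      Subgroup.normalizer (WS D T.hF mu k (F := F) : Set (GL D.Idx F)) := by
    intro k
    rw [posUnipotent_eq T.hF, Subgroup.closure_le]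
    rintro _ ⟨r, t, h1, h2, rfl⟩
    have key : ∀ t : F, ∀ x ∈ {g | ∃ (s : Fin D.nroots) (w : F),
        0 < pairing D s (D.nroots - 1) ∧ k ≤ lv D mu s ∧ g = xG T.hF s w},
        xG T.hF r t * x * (xG T.hF r t)⁻¹ ∈ WS D T.hF mu k := by
      rintro t _ ⟨s, w, hs, hk, rfl⟩
      obtain ⟨W, hW, e⟩ := hgen k ⟨r, h2⟩ s t w h1 hs hk
      rw [show xG T.hF r t * xG T.hF s w * (xG T.hF r t)⁻¹ = xG T.hF s w * W from e]
      exact mul_mem (Subgroup.subset_closure ⟨s, w, hs, hk, rfl⟩) (hanti k hW)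
    refine mem_normalizer_closure (key t) fun x hx => ?_
    have := key (-t) x hx
    rwa [← xG_inv, inv_inv] at this
  refine ⟨(Subgroup.mem_normalizer_iff.1 (hnorm m hv) g).1 hg, ?_⟩
  induction hg using Subgroup.closure_induction generalizing v with
  | mem x hx =>
    obtain ⟨s, w, hs, hk, rfl⟩ := hx
    rw [posUnipotent_eq T.hF] at hv
    induction hv using Subgroup.closure_induction with
    | mem y hy =>
      obtain ⟨r, t, h1, h2, rfl⟩ := hy
      obtain ⟨W, hW, e⟩ := hgen m ⟨r, h2⟩ s t w h1 hs hk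
      rw [show xG T.hF r t * xG T.hF s w * (xG T.hF r t)⁻¹ = xG T.hF s w * W from e]
      exact (Subgroup.mem_normalizer_iff.1 (hnorm (m + 1)
        (mem_posUnipotent_of T.hF s.2 (topRoot_lt_pairing_pos T Q hs) w)) W).1 hW
    | one => simp
    | mul a a' ha _ iha iha' =>
      rw [show a * a' * xG T.hF s w * (a * a')⁻¹ * (xG T.hF s w)⁻¹ =
        a * (a' * xG T.hF s w * a'⁻¹ * (xG T.hF s w)⁻¹) * a⁻¹ *
          (a * xG T.hF s w * a⁻¹ * (xG T.hF s w)⁻¹) by group]
      refine mul_mem ((Subgroup.mem_normalizer_iff.1 (hnorm (m + 1) ?_) _).1 iha') iha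
      rwa [posUnipotent_eq T.hF]
    | inv a ha iha =>
      rw [show a⁻¹ * xG T.hF s w * a⁻¹⁻¹ * (xG T.hF s w)⁻¹ =
        a⁻¹ * (a * xG T.hF s w * a⁻¹ * (xG T.hF s w)⁻¹)⁻¹ * a⁻¹⁻¹ by group]
      refine (Subgroup.mem_normalizer_iff.1 (hnorm (m + 1) ?_) _).1 (inv_mem iha)
      rw [posUnipotent_eq T.hF]; exact inv_mem ha
  | one => simp
  | mul a a' ha _ iha iha' =>
    have haU : a ∈ D.posUnipotent F := by
      refine (Subgroup.closure_le _).2 ?_ ha
      rintro _ ⟨s, t, hs, -, rfl⟩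
      exact mem_posUnipotent_of T.hF s.2 (topRoot_lt_pairing_pos T Q hs) t
    rw [show v * (a * a') * v⁻¹ * (a * a')⁻¹ =
      v * a * v⁻¹ * a⁻¹ * (a * (v * a' * v⁻¹ * a'⁻¹) * a⁻¹) by group]
    exact mul_mem (iha hv) ((Subgroup.mem_normalizer_iff.1 (hnorm (m + 1) haU) _).1 (iha' hv))
  | inv a ha iha =>
    have haU : a ∈ D.posUnipotent F := by
      refine (Subgroup.closure_le _).2 ?_ ha
      rintro _ ⟨s, t, hs, -, rfl⟩
      exact mem_posUnipotent_of T.hF s.2 (topRoot_lt_pairing_pos T Q hs) t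
    rw [show v * a⁻¹ * v⁻¹ * a⁻¹⁻¹ = a⁻¹ * (v * a * v⁻¹ * a⁻¹)⁻¹ * a⁻¹⁻¹ by group]
    exact (Subgroup.mem_normalizer_iff.1 (hnorm (m + 1) (inv_mem haU)) _).1 (inv_mem (iha hv))

variable {B : ℕ} (hg : GradeFacts D mu B) (hC : Checks D C)
  (R : RootFacts D mu T.ρ T.ε T.k)
include hg hC R

/-- An element centralising the rational radical products lies in the Borel subgroup. -/
theorem centralizes_radical {c : GL D.Idx F} (hc : c ∈ T.G1)
    (hcen : ∀ r : Fin D.nroots, 0 < pairing D r (D.nroots - 1) →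
      c * Y T r 1 * c⁻¹ = Y T r 1) : c ∈ T.B1 := by
  obtain ⟨bb, hb, ws, x, hx, rfl⟩ := T.exists_nf hc
  have hxU := closure_uGens_le T.hF _ hx.1
  set π := T.pW ws with hπ
  set n := T.nW ws with hn
  have hT : π (topRoot T.hF) = topRoot T.hF := by
    refine top_fixed T Q hb hxU (a := (1 : F)) one_ne_zero ?_
    have h := hcen (topRoot T.hF) ?_
    · rwa [Y_of_fixed T (Q.ρ_top _ rfl)] at h
    · exact Q.top_pos _ rfl
  have hpair : ∀ s : Fin D.nroots, pairing D (π s : ℕ) (D.nroots - 1) =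
      pairing D s (D.nroots - 1) := fun s => by
    have h := pairing_pWord T.hF (T.flat ws) s (topRoot T.hF)
    rwa [show pWord T.hF (T.flat ws) (topRoot T.hF) = topRoot T.hF from hT] at h
  -- the Weyl part preserves the grades of the radical
  have hlvl : ∀ d m, 2 * B + 1 - m = d → ∀ s : Fin D.nroots,
      0 < pairing D s (D.nroots - 1) → m ≤ lv D mu s →
        lv D mu (π s : ℕ) = lv D mu s ∧ (T.ρ s = s → π s = s) := by
    intro d
    induction d using Nat.strong_induction_on with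
    | _ d ih =>
      intro m hd r hr hrm
      have hb2 : lv D mu r ≤ B := by
        have := hg.bound r; rw [lv]; omega
      rcases Nat.lt_or_eq_of_le hrm with h | h
      · exact ih _ (by omega) (m + 1) rfl r hr h
      subst h
      set m := lv D mu r with hm
      have ihs : ∀ s : Fin D.nroots, 0 < pairing D s (D.nroots - 1) → m + 1 ≤ lv D mu s →
          lv D mu (π s : ℕ) = lv D mu s := fun s h1 h2 =>
        (ih _ (by omega) (m + 1) rfl s h1 h2).1
      have hrp := topRoot_lt_pairing_pos T Q hr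
      have hYW : Y T r (1 : F) ∈ WS D T.hF mu m := Subgroup.list_prod_mem _ fun y hy => by
        obtain ⟨i, -, rfl⟩ := List.mem_map.1 hy
        refine Subgroup.subset_closure ⟨_, _, ?_, (lv_iterate R i r).ge, rfl⟩
        have hρp : ∀ s : Fin D.nroots, pairing D (T.ρ s : ℕ) (D.nroots - 1) =
            pairing D s (D.nroots - 1) := fun s => by
          refine (Fintype.sum_equiv T.π _ _ fun j => ?_).symm
          rw [show coef D (T.ρ s : ℕ) (T.π j) = coef D (s : ℕ) j from T.hG.coef j s]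
          have h2 := T.hG.cartan j (topRoot T.hF)
          rw [Q.ρ_top _ rfl] at h2
          rw [show D.cartan (T.π j) (D.nroots - 1) = D.cartan j (D.nroots - 1) from h2]
        clear hy
        induction i with
        | zero => exact hr
        | succ i ihi => rw [Function.iterate_succ_apply', hρp]; exact ihi
      obtain ⟨-, hE⟩ := commutator_WS T Q hC hxU hYW
      set E := x * Y T r 1 * x⁻¹ * (Y T r 1)⁻¹ with hEdef
      have hnE : n * E * n⁻¹ ∈ LV mu (m + 1) := by
        refine ((Subgroup.closure_le _).2 ?_ :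
          WS D T.hF mu (m + 1) ≤ (LV mu (m + 1)).comap (MulAut.conj n).toMonoidHom) hE
        rintro _ ⟨s, t, hs, hsm, rfl⟩
        show n * xG T.hF s t * n⁻¹ ∈ LV mu (m + 1)
        obtain ⟨d', -, hd'⟩ := T.isMon_nW ws s
        rw [hn, hd' t, mul_inv_cancel_right]
        exact xG_mem_LV T.hF hg hC (topRoot_lt_pairing_pos T Q (by rw [← hπ, hpair]; exact hs))
          (by rw [← hπ, ihs s hs hsm]; exact hsm) _
      obtain ⟨v, hv, h, hh, hvh⟩ := T.mem_B1.1 (inv_mem hb)
      obtain ⟨cc, -, rfl⟩ := T.mem_T1.1 hh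
      have hR : n * (x * Y T r 1 * x⁻¹) * n⁻¹ =
          v * Y T r ((chiU cc (r : ℕ) : F) * 1) * v⁻¹ := by
        rw [← conj_Y T R (T.T1_le_fx hh) (r := r) rfl (fun t => by
          rw [torusHom_conj T.hF cc r.2, mul_inv_cancel_right]) 1,
          show n * (x * Y T r 1 * x⁻¹) * n⁻¹ =
            bb⁻¹ * (bb * n * x * Y T r 1 * (bb * n * x)⁻¹) * bb by group, hcen r hr,
          show bb = (v * torusHom cc)⁻¹ by rw [hvh, inv_inv]]
        group
      obtain ⟨hRm, hRc⟩ := co_conj T.hF hg hrp (posUnipotent_le_LV T.hF hg hC hv.1)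
        (Y_mem_LV T R hg hC hrp ((chiU cc (r : ℕ) : F) * 1))
      rw [co_Y_self T R hg hC hrp, ← hR] at hRc
      rw [← hR] at hRm
      -- the image of the product of the orbit
      obtain ⟨d0, hd00, hd0⟩ := T.isMon_nW ws r
      have hnfx : n ∈ T.fx := T.G1_le_fx (T.N1_le_G1 (T.nW_mem_N1 ws))
      have holen : olen T.ρ T.k (π r) = olen T.ρ T.k r := by
        have hcm : T.ρ (π r) = π (T.ρ r) := by
          rw [← Equiv.Perm.mul_apply, (T.inW1_pW ws).2.eq, Equiv.Perm.mul_apply]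
        simp only [olen, hcm, EmbeddingLike.apply_eq_iff_eq]
      have hL : n * Y T r 1 * n⁻¹ = Y T (π r) (d0 * 1) :=
        conj_Y T R hnfx holen (fun t => by rw [hn, hd0 t, mul_inv_cancel_right]) 1
      have hLeq : Y T (π r) (d0 * 1) = (n * E * n⁻¹)⁻¹ * (n * (x * Y T r 1 * x⁻¹) * n⁻¹) := by
        rw [← hL, hEdef]; group
      have hnEm : n * E * n⁻¹ ∈ LV mu m := LV_anti (Nat.le_succ m) hnE
      have hLm : Y T (π r) (d0 * 1) ∈ LV mu m := by
        rw [hLeq]; exact mul_mem (inv_mem hnEm) hRm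
      have hπrp : half D ≤ (π r : ℕ) := topRoot_lt_pairing_pos T Q (by rw [hpair]; exact hr)
      have hge : m ≤ lv D mu (π r : ℕ) := by
        by_contra hlt
        have h0 := co_of_higher T.hF hg hπrp (LV_anti (show lv D mu (π r : ℕ) + 1 ≤ m by omega) hLm)
        rw [co_Y_self T R hg hC hπrp, mul_one] at h0
        exact hd00 h0
      have hle : lv D mu (π r : ℕ) ≤ m := by
        classical
        by_contra hgt
        set S : Finset (Fin D.nroots) := Finset.univ.filter fun s =>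
          0 < pairing D s (D.nroots - 1) ∧ m + 1 ≤ lv D mu s with hS
        have himg : S.image π = S := by
          refine Finset.eq_of_subset_of_card_le (fun y hy => ?_)
            (le_of_eq (Finset.card_image_of_injective S π.injective).symm)
          obtain ⟨s, hs, rfl⟩ := Finset.mem_image.1 hy
          simp only [hS, Finset.mem_filter, Finset.mem_univ, true_and] at hs ⊢
          exact ⟨by rw [hpair]; exact hs.1, by rw [ihs s hs.1 hs.2]; exact hs.2⟩
        have hmem : π r ∈ S := by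
          simp only [hS, Finset.mem_filter, Finset.mem_univ, true_and]
          exact ⟨by rw [hpair]; exact hr, by omega⟩
        rw [← himg] at hmem
        obtain ⟨s, hs, e⟩ := Finset.mem_image.1 hmem
        rw [π.injective e] at hs
        simp only [hS, Finset.mem_filter] at hs
        omega
      have he : lv D mu (π r : ℕ) = m := le_antisymm hle hge
      refine ⟨he, fun hfix => ?_⟩
      have h0 : co T.hF r (Y T (π r) (d0 * 1)) ≠ 0 := by
        rw [hLeq, co_mul T.hF hg hrp (inv_mem hnEm) hRm, co_inv T.hF hg hrp hnEm,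
          co_of_higher T.hF hg hrp hnE, neg_zero, zero_add, hRc, mul_one]
        exact Units.ne_zero _
      rw [Y_of_fixed T (by
        rw [← Equiv.Perm.mul_apply, (T.inW1_pW ws).2.eq, Equiv.Perm.mul_apply, hfix]), co_xG] at h0
      by_contra hne
      rw [if_neg (Ne.symm hne)] at h0
      exact h0 rfl
  have hfixR : ∀ r : Fin D.nroots, 0 < pairing D r (D.nroots - 1) → T.ρ r = r → π r = r :=
    fun r h1 h2 => (hlvl _ 0 rfl r h1 (Nat.zero_le _)).2 h2
  have hπ1 : π = 1 := by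
    refine eq_one_of_pos T.hF (T.inW1_pW ws).1 fun i => ?_
    obtain ⟨a, j, -, rfl⟩ := T.cover i
    refine (T.node_sign (T.inW1_pW ws) a j).2 ?_
    by_contra hneg
    have hall : ∀ l, (π (sRoot T.hF (T.node a l)) : ℕ) < half D := fun l =>
      not_le.1 fun h => hneg ((T.node_sign (T.inW1_pW ws) a l).1 h)
    obtain ⟨hsp, hsum⟩ := Q.span a
    set j0 := T.base a
    have e1 : ((List.range (T.len a)).map fun l =>
        coef D (π (sRoot T.hF (T.node a l)) : ℕ) j0).sum =
        ((List.range (T.len a)).map fun l => coef D (D.simple (T.node a l)) j0).sum := by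
      have lin : ∀ r : Fin D.nroots, coef D (π r : ℕ) j0 =
          ∑ x : Fin D.rank, coef D r x * coef D (π (sRoot T.hF x) : ℕ) j0 :=
        fun r => coef_pWord T.hF (T.flat ws) r j0
      have swap : ∀ {α : Type} (L : List α) (f : α → Fin D.rank → ℤ),
          (L.map fun l => ∑ x : Fin D.rank, f l x * coef D (π (sRoot T.hF x) : ℕ) j0).sum =
          ∑ x : Fin D.rank, (L.map fun l => f l x).sum * coef D (π (sRoot T.hF x) : ℕ) j0 := by
        intro α L f
        induction L with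
        | nil => simp
        | cons a L ihL => simp [ihL, Finset.sum_add_distrib, add_mul]
      calc ((List.range (T.len a)).map fun l => coef D (π (sRoot T.hF (T.node a l)) : ℕ) j0).sum
          = ∑ x : Fin D.rank, ((List.range (T.len a)).map fun l =>
              coef D (D.simple (T.node a l)) x).sum * coef D (π (sRoot T.hF x) : ℕ) j0 := by
            rw [← swap]
            exact congrArg List.sum (List.map_congr_left fun l _ => lin _)
        _ = ((sp a).map fun c => c.1 * coef D (π c.2 : ℕ) j0).sum := by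
            refine Eq.trans (Finset.sum_congr rfl fun x _ => congrArg
              (· * coef D (π (sRoot T.hF x) : ℕ) j0) (hsum x).symm) ?_
            rw [← swap]
            refine congrArg List.sum (List.map_congr_left fun c _ => ?_)
            rw [lin, Finset.mul_sum]
            exact Finset.sum_congr rfl fun x _ => by ring
        _ = _ := by
            refine Eq.trans ?_ (hsum j0)
            refine congrArg List.sum (List.map_congr_left fun c hc => ?_)
            obtain ⟨-, h2, h3⟩ := hsp c hc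
            rw [hfixR c.2 h3 h2]
    have e2 : ((List.range (T.len a)).map fun l =>
        coef D (π (sRoot T.hF (T.node a l)) : ℕ) j0).sum ≤ 0 := by
      refine (List.sum_le_card_nsmul _ (0 : ℤ) fun y hy => ?_).trans (by simp)
      obtain ⟨l, -, rfl⟩ := List.mem_map.1 hy
      exact coef_nonpos T.hF (hall l) _
    have e3 : (1 : ℤ) ≤ ((List.range (T.len a)).map fun l => coef D (D.simple (T.node a l)) j0).sum := by
      rw [List.sum_map_eq_nsmul_single 0]
      · rw [List.count_eq_one_of_mem List.nodup_range (List.mem_range.2 (T.hO.len_pos a)), one_nsmul,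
          T.node_zero, T.hF.coef_simple j0 j0.2 j0 j0.2, if_pos rfl]
      · intro l hne hl
        rw [T.hF.coef_simple _ (T.node a l).2 j0 j0.2, if_neg]
        exact fun e => hne (T.node_inj (List.mem_range.1 hl) (T.hO.len_pos a) (Fin.ext e.symm)).2
    omega
  exact mul_mem (mul_mem hb (Subgroup.mem_sup_right (T.nW_mem_T1 ws hπ1)))
    (Subgroup.mem_sup_left ⟨hxU, hx.2⟩)

end Cfsg.Agent.Overgroup.Twisted
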